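import Cfsg.Agent.Ree.Arith.TypeA

/-!
The numerical contradictions of the assembly: four equal degrees in the system of eight members, and the
system of seven members.
-/

set_option autoImplicit false
set_option linter.unusedSectionVars false

namespace Cfsg.Lib.Ree

/-- Four equal degrees do not occur. -/
theorem no_four_equal {Q h D2 D3 D4 D5 D6 : ℤ} (hd : Degrees Q h D2 D3 D4 D5 D6) (he : D6 = D5)
    (hf : -(h : ℚ) * (1 + 1 / (D2 : ℚ) + (Q : ℚ) ^ 2 * (1 / (D3 : ℚ) + 1 / (D4 : ℚ)) +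
      2 * (midVal Q : ℚ) ^ 2 / (D6 : ℚ)) - 9 * (h : ℚ) * ((Q : ℚ) + 1) ^ 2 / (2 * (D5 : ℚ)) =
      -((Q : ℚ) - 1) * Q * ((Q : ℚ) ^ 2 - 1)) : False := by
  obtain ⟨M, hQ, hM, -⟩ := exists_mid hd.mod_eight
  have hQ11 := hd.big
  obtain ⟨hD2, hD3, hD4, hD5, hD6⟩ := hd.ne
  have ex := hd.eq_x
  have ea := hd.eq_a
  have hca := hd.col_a
  have hQq : (Q : ℚ) = 2 * M - 1 := by exact_mod_cast hQ
  have hM0 : (M : ℚ) ≠ 0 := by
    have : M ≠ 0 := fun e => by omega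
    exact_mod_cast this
  have hD5' : (D5 : ℚ) ≠ 0 := by exact_mod_cast hD5
  have hD2' : (D2 : ℚ) ≠ 0 := by exact_mod_cast hD2
  rw [hM] at ea hf
  rw [he] at ea hf hca
  generalize (1 / (D3 : ℚ) + 1 / (D4 : ℚ)) = T at ex ea hf
  have hh : (h : ℚ) = -(Q : ℚ) ^ 2 * D5 / M := by
    rw [eq_div_iff hM0]
    field_simp at ex ea hf
    rw [hQq] at ex ea hf ⊢
    have key : ((h : ℚ) * M + (2 * M - 1) ^ 2 * D5) * (16 * (D2 : ℚ) * M) = 0 := by
      linear_combination (-2 * (D2 : ℚ)) * ea + (D5 : ℚ) * ex + (-1 / 2 : ℚ) * hf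
    rcases mul_eq_zero.1 key with k | k
    · linear_combination k
    · exact absurd k (mul_ne_zero (mul_ne_zero (by norm_num) hD2') hM0)
  have hD5e : (D5 : ℚ) = -(1 + D2) / 2 := by
    have : (D5 : ℚ) + D5 = -(1 + D2) := by exact_mod_cast hca
    linear_combination this / 2
  have hQ0 : (Q : ℚ) ≠ 0 := by
    have : Q ≠ 0 := fun e => by omega
    exact_mod_cast this
  have hhM : (h : ℚ) * M = -(Q : ℚ) ^ 2 * D5 := by rw [hh, div_mul_cancel₀ _ hM0]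
  have h0 : 2 * (M : ℚ) ^ 2 * h / D5 = -2 * (Q : ℚ) ^ 2 * M := by
    rw [div_eq_iff hD5']
    linear_combination (2 * (M : ℚ)) * hhM
  have h1 : (h : ℚ) * (Q : ℚ) ^ 2 * T = (Q : ℚ) * ((Q : ℚ) + 1) * (4 * Q + 1) := by
    linear_combination ea - h0 + (-(Q : ℚ) ^ 2) * hQq
  have h2 : (h : ℚ) * ((D2 : ℚ) + 1) = D2 * ((Q : ℚ) ^ 2 * ((Q : ℚ) + 1) * ((Q : ℚ) + 4)) := by
    have : (h : ℚ) * (1 + 1 / (D2 : ℚ)) = (Q : ℚ) ^ 2 * ((Q : ℚ) + 1) * ((Q : ℚ) + 4) := by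
      linear_combination h1 - ex
    rw [← this]; field_simp
  have h3 : (h : ℚ) * ((Q : ℚ) + 1) = (Q : ℚ) ^ 2 * (1 + D2) := by
    linear_combination 2 * hhM + (h : ℚ) * hQq + (-2 * (Q : ℚ) ^ 2) * hD5e
  have key : (1 + (D2 : ℚ)) ^ 2 = D2 * ((Q : ℚ) + 1) ^ 2 * ((Q : ℚ) + 4) := by
    refine mul_left_cancel₀ (pow_ne_zero 2 hQ0) ?_
    linear_combination ((Q : ℚ) + 1) * h2 - (1 + (D2 : ℚ)) * h3
  have keyZ : (1 + D2) ^ 2 = D2 * (Q + 1) ^ 2 * (Q + 4) := by exact_mod_cast key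
  have h1 : D2 ∣ 1 := ⟨(Q + 1) ^ 2 * (Q + 4) - 2 - D2, by linear_combination keyZ⟩
  have hc2 := hd.congr.1
  rcases Int.isUnit_iff.1 (isUnit_of_dvd_one h1) with rfl | rfl
  · rcases le_or_gt 0 Q with hQ' | hQ'
    · nlinarith [show (11 : ℤ) ≤ Q by omega]
    · nlinarith [show Q ≤ -11 by omega]
  · omega

/-- The system of seven members does not occur. -/
theorem no_seven {Q h M r g dW : ℤ} (hpp : IsPrimePow Q.natAbs) (h8 : Q % 8 = 5) (hbig : 27 ≤ Q.natAbs)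
    (hQ : Q = 2 * M - 1) (hh : h = Q ^ 2 * g) (hg : g ≠ 0) (hW : dW = M * g - (1 + r) / 2)
    (hr8 : r % 8 = 5) (hdvd : r ∣ h * Q)
    (hx : (r - Q) ^ 2 * Q * g = (Q + 1) ^ 2 * (Q - 1) * r * (r - 1))
    (hk : (Q - 1) / 4 ∣ r - 1) (hkD : (Q - 1) / 4 ∣ -M * g + 3)
    (hf : -(1 : ℚ) - 2 * ((Q : ℚ) + 1) ^ 2 / dW - (Q : ℚ) ^ 2 / r - 9 * ((Q : ℚ) + 1) ^ 2 / (2 * (-M * g : ℤ)) =
      -((Q : ℚ) - 1) * Q * ((Q : ℚ) ^ 2 - 1) / h) : False := by
  obtain ⟨c, hc⟩ : ∃ c, Q = 4 * c + 1 := ⟨Q / 4, by omega⟩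
  have hk' : (Q - 1) / 4 = c := by omega
  rw [hk'] at hk hkD
  have hc7 : 7 ≤ c ∨ c ≤ -7 := by omega
  have hQ27 : (27 : ℤ) ≤ |Q| := le_abs.2 (by omega)
  have hcodd : c % 2 = 1 := by omega
  have hMc : M = 2 * c + 1 := by omega
  have hQ0 : Q ≠ 0 := by omega
  have hr0 : r ≠ 0 := by omega
  -- `Q` is a prime power dividing `r (r - 1)`
  have hQrr : Q ∣ r * (r - 1) := by
    have h1 : IsCoprime Q ((Q + 1) ^ 2 * (Q - 1)) :=
      (IsCoprime.pow_right ⟨-1, 1, by ring⟩).mul_right ⟨1, -1, by ring⟩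
    refine h1.dvd_of_dvd_mul_left ⟨(r - Q) ^ 2 * g, ?_⟩
    linear_combination -hx
  have hcases : Q ∣ r ∨ Q ∣ r - 1 := by
    obtain ⟨p, e, hp, he, hpe⟩ := (isPrimePow_nat_iff _).1 hpp
    have hpz : Prime (p : ℤ) := Nat.prime_iff_prime_int.1 hp
    have hQd : (p : ℤ) ^ e ∣ r * (r - 1) := by
      have : ((p : ℤ) ^ e) = (Q.natAbs : ℤ) := by exact_mod_cast hpe
      rw [this]
      exact Int.natAbs_dvd.2 hQrr
    by_cases hpr : (p : ℤ) ∣ r
    · left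
      have h1 : ¬ (p : ℤ) ∣ r - 1 := fun h => hpz.not_dvd_one (by simpa using dvd_sub hpr h)
      have := hpz.pow_dvd_of_dvd_mul_right e h1 hQd
      rw [show ((p : ℤ) ^ e) = (Q.natAbs : ℤ) by exact_mod_cast hpe] at this
      exact Int.natAbs_dvd.1 this
    · right
      have := hpz.pow_dvd_of_dvd_mul_left e hpr hQd
      rw [show ((p : ℤ) ^ e) = (Q.natAbs : ℤ) by exact_mod_cast hpe] at this
      exact Int.natAbs_dvd.1 this
  rcases hcases with hQr | hQr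
  · -- `Q` divides `r`
    obtain ⟨r1, rfl⟩ := hQr
    have hQ2 : Q ^ 2 ∣ r1 := by
      have e : Q ^ 2 * ((r1 - 1) ^ 2 * g) = (Q + 1) ^ 2 * (Q - 1) * (r1 * (Q * r1 - 1)) :=
        mul_left_cancel₀ hQ0 (by linear_combination hx)
      have h1 : IsCoprime (Q ^ 2) ((Q + 1) ^ 2 * (Q - 1) * (Q * r1 - 1)) :=
        IsCoprime.pow_left (((IsCoprime.pow_right ⟨-1, 1, by ring⟩).mul_right ⟨1, -1, by ring⟩).mul_right
          ⟨r1, -1, by ring⟩)
      exact h1.dvd_of_dvd_mul_right ⟨(r1 - 1) ^ 2 * g, by linear_combination -e⟩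
    obtain ⟨r0, rfl⟩ := hQ2
    obtain ⟨g1, rfl⟩ : r0 ∣ g := by
      rw [hh] at hdvd
      exact (mul_dvd_mul_iff_left (pow_ne_zero 3 hQ0)).1 (by
        rw [show Q ^ 3 * r0 = Q * (Q ^ 2 * r0) by ring, show Q ^ 3 * g = Q ^ 2 * g * Q by ring]; exact hdvd)
    have hr00 : r0 ≠ 0 := fun e => hg (by rw [e, zero_mul])
    set T0 := 1 - Q ^ 2 * r0 with hT0
    have e1 : T0 ^ 2 * g1 = (Q + 1) ^ 2 * (Q - 1) * (Q - 1 - Q * T0) := by
      refine mul_left_cancel₀ (mul_ne_zero (pow_ne_zero 3 hQ0) hr00) ?_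
      rw [hT0]
      linear_combination hx
    -- `r0` is one modulo `8 c`
    have hr08 : r0 % 8 = 1 := by
      have h1 : Q * (Q ^ 2 * r0) % 8 = 5 := hr8
      have hq : Q ^ 2 % 8 = 1 := by rw [pow_two, Int.mul_emod, h8]; rfl
      rw [Int.mul_emod, Int.mul_emod (Q ^ 2), hq, h8] at h1
      omega
    have hc8 : 8 * c ∣ T0 := by
      have h1 : c ∣ T0 := by
        have hr01 : c ∣ r0 - 1 := by
          have e : r0 - 1 = (Q * (Q ^ 2 * r0) - 1) - (Q - 1) * ((Q ^ 2 + Q + 1) * r0) := by ring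
          rw [e]
          exact dvd_sub hk (Dvd.dvd.mul_right ⟨4, by omega⟩ _)
        have e : T0 = -((Q - 1) * ((Q + 1) * r0)) - (r0 - 1) := by rw [hT0]; ring
        rw [e]
        exact dvd_sub (dvd_neg.2 (Dvd.dvd.mul_right ⟨4, by omega⟩ _)) hr01
      have h2 : (8 : ℤ) ∣ T0 := by
        have hq : Q ^ 2 % 8 = 1 := by rw [pow_two, Int.mul_emod, h8]; rfl
        rw [hT0, Int.dvd_iff_emod_eq_zero, Int.sub_emod, Int.mul_emod, hq, hr08]
        rfl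
      refine IsCoprime.mul_dvd ?_ h2 h1
      have h2c : IsCoprime (2 : ℤ) c := ⟨-(c / 2), 1, by omega⟩
      simpa using h2c.pow_left (m := 3)
    obtain ⟨τ, hτ⟩ := hc8
    have hτ' : T0 = 2 * (Q - 1) * τ := by rw [hτ, hc]; ring
    have hτ0 : τ ≠ 0 := fun e => by
      rw [e, mul_zero] at hτ'
      have hQ1 : Q ^ 2 * r0 = 1 := by linear_combination -hτ'
      rcases Int.isUnit_iff.1 (isUnit_of_dvd_one ⟨Q * r0, by linear_combination -hQ1⟩ : IsUnit Q) with e' | e' <;>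
        omega
    have e2 : τ ^ 2 * g1 = M ^ 2 * (1 - 2 * Q * τ) := by
      have hne : (4 : ℤ) * (Q - 1) ^ 2 ≠ 0 := mul_ne_zero (by norm_num) (pow_ne_zero 2 (by omega))
      refine mul_left_cancel₀ hne ?_
      rw [hτ', show Q + 1 = 2 * M by omega] at e1
      linear_combination e1
    have hτM : τ ∣ M := by
      have h1 : IsCoprime (τ ^ 2) (1 - 2 * Q * τ) := IsCoprime.pow_left ⟨2 * Q, 1, by ring⟩
      exact (Int.pow_dvd_pow_iff two_ne_zero).1 (h1.dvd_of_dvd_mul_right ⟨g1, e2.symm⟩)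
    have hτle : |τ| ≤ |M| := Int.le_of_dvd (abs_pos.2 (by omega)) (by simpa using hτM)
    have hr01 : r0 = 1 := by
      by_contra hne
      have h7 : 7 ≤ |r0| := le_abs.2 (by omega)
      have hT : |T0| ≤ |2 * (Q - 1)| * |M| := by
        rw [hτ', abs_mul]; exact mul_le_mul_of_nonneg_left hτle (abs_nonneg _)
      rw [← abs_mul, show 2 * (Q - 1) * M = Q ^ 2 - 1 by rw [hQ]; ring] at hT
      have hQ729 : 27 * 27 ≤ Q ^ 2 := by
        rw [← sq_abs]; nlinarith [hQ27]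
      rw [abs_of_nonneg (show (0 : ℤ) ≤ Q ^ 2 - 1 by omega)] at hT
      have h3 : |Q ^ 2 * r0| ≤ |T0| + 1 := by
        rw [hT0]
        calc |Q ^ 2 * r0| = |1 - (1 - Q ^ 2 * r0)| := by ring_nf
          _ ≤ |1| + |1 - Q ^ 2 * r0| := abs_sub _ _
          _ = _ := by rw [abs_one]; ring
      rw [abs_mul, abs_of_nonneg (show (0 : ℤ) ≤ Q ^ 2 by positivity)] at h3
      nlinarith
    subst hr01
    have hτe : τ = -M := by
      have : 2 * (Q - 1) * τ = 2 * (Q - 1) * -M := by rw [← hτ', hT0, hQ]; ring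
      exact mul_left_cancel₀ (show (2 : ℤ) * (Q - 1) ≠ 0 by omega) this
    have hM0 : M ≠ 0 := by omega
    have hg1 : g1 = Q ^ 2 + Q + 1 := by
      refine mul_left_cancel₀ (pow_ne_zero 2 hM0) ?_
      rw [hτe] at e2
      rw [hQ] at e2 ⊢
      linear_combination e2
    subst hg1
    have hWv : dW = Q * (Q + 1) := by
      have hQe : M * (Q ^ 2 + Q + 1) - Q * (Q + 1) = (1 + Q * (Q ^ 2 * 1)) / 2 := by
        symm
        apply Int.ediv_eq_of_eq_mul_left two_ne_zero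
        rw [hQ]; ring
      rw [hW, one_mul, ← hQe]; ring
    rw [hWv, hh] at hf
    have hq0 : (Q : ℚ) ≠ 0 := by exact_mod_cast hQ0
    have hq1 : (Q : ℚ) + 1 ≠ 0 := by
      have : Q + 1 ≠ 0 := by omega
      exact_mod_cast this
    have hMq : (M : ℚ) = ((Q : ℚ) + 1) / 2 := by
      have : (Q : ℚ) = 2 * M - 1 := by exact_mod_cast hQ
      linear_combination -this / 2
    have hq2 : (Q : ℚ) ^ 2 + Q + 1 ≠ 0 := by nlinarith [sq_nonneg ((Q : ℚ) + 1 / 2)]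
    push_cast at hf
    rw [hMq] at hf
    have hq2' : (Q : ℚ) * ((Q : ℚ) + 1) + 1 ≠ 0 := by
      rw [show (Q : ℚ) * ((Q : ℚ) + 1) + 1 = (Q : ℚ) ^ 2 + Q + 1 by ring]; exact hq2
    field_simp at hf
    have key : ((Q : ℚ) - 1) ^ 2 * ((Q : ℚ) + 1) = 0 := by
      linear_combination (-1 / 2 : ℚ) * hf
    have hq3 : (Q : ℚ) - 1 ≠ 0 := by
      have : Q - 1 ≠ 0 := by omega
      exact_mod_cast this
    simp [hq0, hq1, hq3] at key
  · -- `Q` divides `r - 1`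
    have hrg : r ∣ g := by
      have h1 : IsCoprime r (Q ^ 3) := by
        obtain ⟨j, hj⟩ := hQr
        exact IsCoprime.pow_right ⟨1, -j, by linear_combination hj⟩
      rw [hh, show Q ^ 2 * g * Q = Q ^ 3 * g by ring] at hdvd
      exact h1.dvd_of_dvd_mul_left hdvd
    obtain ⟨g', rfl⟩ := hrg
    have hQ1 : Q * (Q - 1) ∣ r - 1 := by
      refine IsCoprime.mul_dvd ⟨1, -1, by ring⟩ hQr ?_
      rw [hc, show 4 * c + 1 - 1 = 4 * c by ring]
      refine IsCoprime.mul_dvd ?_ (by omega) hk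
      have h2c : IsCoprime (2 : ℤ) c := ⟨-(c / 2), 1, by omega⟩
      simpa using h2c.pow_left (m := 2)
    obtain ⟨i, hi⟩ := hQ1
    have hiodd : i % 2 = 1 := by
      have h4 : (Q * (Q - 1)) % 8 = 4 := by rw [Int.mul_emod, Int.sub_emod, h8]; rfl
      have h2 : (Q * (Q - 1) * i) % 8 = 4 := by rw [← hi]; omega
      rw [Int.mul_emod, h4] at h2
      omega
    have e1 : (Q * i - 1) ^ 2 * g' = i * (Q + 1) ^ 2 := by
      have hne : (Q - 1) ^ 2 * Q * r ≠ 0 :=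
        mul_ne_zero (mul_ne_zero (pow_ne_zero 2 (by omega)) hQ0) hr0
      refine mul_left_cancel₀ hne ?_
      linear_combination hx + ((Q + 1) ^ 2 * (Q - 1) * r - Q * (r * g') *
        ((r - Q) + (Q - 1) * (Q * i - 1))) * hi
    obtain ⟨g'', rfl⟩ : i ∣ g' := by
      have h1 : IsCoprime i ((Q * i - 1) ^ 2) := IsCoprime.pow_right ⟨Q, -1, by ring⟩
      exact h1.dvd_of_dvd_mul_left ⟨(Q + 1) ^ 2, e1⟩
    have hi0 : i ≠ 0 := by omega
    have e2 : (Q * i - 1) ^ 2 * g'' = (Q + 1) ^ 2 := mul_left_cancel₀ hi0 (by linear_combination e1)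
    have hle : |Q * i - 1| ≤ |Q + 1| :=
      Int.le_of_dvd (abs_pos.2 (by omega))
        (by simpa using (Int.pow_dvd_pow_iff two_ne_zero).1 ⟨g'', e2.symm⟩)
    have hi1 : i = 1 ∨ i = -1 := by
      by_contra hcon
      have h3 : 3 ≤ |i| := le_abs.2 (by omega)
      have h4 : |Q * i| ≤ |Q * i - 1| + 1 := by
        calc |Q * i| = |(Q * i - 1) + 1| := by ring_nf
          _ ≤ |Q * i - 1| + |1| := abs_add_le _ _
          _ = _ := by rw [abs_one]
      rw [abs_mul] at h4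
      nlinarith [hQ27, (abs_add_le Q 1).trans (le_of_eq (by rw [abs_one])), abs_nonneg i]
    rcases hi1 with rfl | rfl
    · have h1 : Q - 1 ∣ Q + 1 :=
        (Int.pow_dvd_pow_iff two_ne_zero).1 ⟨g'', by linear_combination -e2⟩
      have h2 : Q - 1 ∣ 2 := by simpa using dvd_sub h1 (dvd_refl (Q - 1))
      have := Int.le_of_dvd two_pos ((abs_dvd (Q - 1) 2).2 h2)
      rw [abs_le] at this
      omega
    · have hg'' : g'' = 1 := by
        refine mul_left_cancel₀ (pow_ne_zero 2 (show Q + 1 ≠ 0 by omega)) ?_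
        linear_combination e2
      subst hg''
      have hcd : c ∣ (-M * (r * (-1 * 1)) + 3) - 4 := by
        rw [show (-M * (r * (-1 * 1)) + 3) - 4 = (M - 1) * r + (r - 1) by ring]
        exact dvd_add (Dvd.dvd.mul_right ⟨2, by omega⟩ _) hk
      have h4 : c ∣ 4 := by simpa using dvd_sub hkD hcd
      have := Int.le_of_dvd (by norm_num) ((abs_dvd c 4).2 h4)
      rw [abs_le] at this
      omega

end Cfsg.Lib.Ree
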