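import Mathlib

/-!
Four integer vectors of norm two whose inner products are one share a coordinate.
-/

set_option autoImplicit false

namespace Cfsg.Lib.Ree.Star

variable {ι : Type*}

/-- An integer vector of norm one. -/
theorem unit_vec {s : Finset ι} {a : ι → ℤ} (h : ∑ x ∈ s, a x ^ 2 = 1) :
    ∃ X ∈ s, a X ^ 2 = 1 ∧ ∀ x ∈ s, x ≠ X → a x = 0 := by
  classical
  obtain ⟨X, hX, hX1⟩ := Finset.exists_ne_zero_of_sum_ne_zero (show ∑ x ∈ s, a x ^ 2 ≠ 0 by omega)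
  have hs := Finset.add_sum_erase s (fun x => a x ^ 2) hX
  have hnn : 0 ≤ ∑ x ∈ s.erase X, a x ^ 2 := Finset.sum_nonneg fun x _ => sq_nonneg _
  have hp : 0 < a X ^ 2 := lt_of_le_of_ne (sq_nonneg _) (Ne.symm hX1)
  refine ⟨X, hX, by omega, fun x hx hne => ?_⟩
  have := Finset.single_le_sum (f := fun x => a x ^ 2) (fun x _ => sq_nonneg _) (Finset.mem_erase.2 ⟨hne, hx⟩)
  have h0 : a x ^ 2 = 0 := le_antisymm (by omega) (sq_nonneg _)
  exact pow_eq_zero_iff two_ne_zero |>.1 h0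

/-- An integer vector of norm two. -/
theorem pair_vec {s : Finset ι} {a : ι → ℤ} (h : ∑ x ∈ s, a x ^ 2 = 2) :
    ∃ p ∈ s, ∃ q ∈ s, p ≠ q ∧ a p ^ 2 = 1 ∧ a q ^ 2 = 1 ∧ ∀ x ∈ s, x ≠ p → x ≠ q → a x = 0 := by
  classical
  obtain ⟨p, hp, hp1⟩ := Finset.exists_ne_zero_of_sum_ne_zero (show ∑ x ∈ s, a x ^ 2 ≠ 0 by omega)
  have hs := Finset.add_sum_erase s (fun x => a x ^ 2) hp
  have hnn : 0 ≤ ∑ x ∈ s.erase p, a x ^ 2 := Finset.sum_nonneg fun x _ => sq_nonneg _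
  have hlo : -1 ≤ a p := by nlinarith
  have hhi : a p ≤ 1 := by nlinarith
  have hp2 : a p ^ 2 = 1 := by
    interval_cases hh : a p <;> simp_all
  obtain ⟨q, hq, hq1, hrest⟩ := unit_vec (a := a) (s := s.erase p) (by omega)
  exact ⟨p, hp, q, (Finset.mem_erase.1 hq).2, Ne.symm (Finset.mem_erase.1 hq).1, hp2, hq1,
    fun x hx h1 h2 => hrest x (Finset.mem_erase.2 ⟨h1, hx⟩) h2⟩

theorem sum_split_two [DecidableEq ι] {s : Finset ι} {p q : ι} (hp : p ∈ s) (hq : q ∈ s) (hpq : p ≠ q)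
    (f : ι → ℤ) : ∑ x ∈ s, f x = f p + f q + ∑ x ∈ (s.erase p).erase q, f x := by
  rw [← Finset.add_sum_erase s f hp, ← Finset.add_sum_erase (s.erase p) f (Finset.mem_erase.2 ⟨hpq.symm, hq⟩),
    add_assoc]

/-- Four vectors of norm two with all inner products one share a coordinate. -/
theorem star {s : Finset ι} {v : Fin 4 → ι → ℤ} (hn : ∀ i, ∑ x ∈ s, v i x ^ 2 = 2)
    (hi : ∀ i j, i ≠ j → ∑ x ∈ s, v i x * v j x = 1) :
    ∃ e ∈ s, v 0 e ^ 2 = 1 ∧ ∀ i, v i e = v 0 e := by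
  classical
  obtain ⟨a, ha, b, hb, hab, ha1, hb1, hrest⟩ := pair_vec (hn 0)
  have hdic : ∀ i, i ≠ 0 → (v i a = v 0 a ∧ v i b = 0) ∨ (v i b = v 0 b ∧ v i a = 0) := by
    intro i hi0
    have h := hi 0 i (Ne.symm hi0)
    rw [sum_split_two ha hb hab, Finset.sum_eq_zero (fun x hx => by
      obtain ⟨h1, h2⟩ := Finset.mem_erase.1 hx
      obtain ⟨h3, h4⟩ := Finset.mem_erase.1 h2
      rw [hrest x h4 h3 h1, zero_mul]), add_zero] at h
    have hsum := hn i
    rw [sum_split_two ha hb hab] at hsum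
    have hnn : 0 ≤ ∑ x ∈ (s.erase a).erase b, v i x ^ 2 := Finset.sum_nonneg fun x _ => sq_nonneg _
    generalize v i a = p at *
    generalize v i b = q at *
    generalize v 0 a = A at *
    generalize v 0 b = B at *
    have p1 : -1 ≤ p := by nlinarith
    have p2 : p ≤ 1 := by nlinarith
    have q1 : -1 ≤ q := by nlinarith
    have q2 : q ≤ 1 := by nlinarith
    rcases sq_eq_one_iff.1 ha1 with rfl | rfl <;> rcases sq_eq_one_iff.1 hb1 with rfl | rfl <;>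
      interval_cases p <;> interval_cases q <;> omega
  have nbad : ∀ i k j : Fin 4, i ≠ k → i ≠ j → k ≠ j → ∀ p q, p ∈ s → q ∈ s → p ≠ q → v 0 p ^ 2 = 1 →
      v 0 q ^ 2 = 1 → v i p = v 0 p → v i q = 0 → v k p = v 0 p → v k q = 0 → v j q = v 0 q → v j p = 0 →
      False := by
    intro i k j hik hij hkj p q hp hq hpq p1 q1 i1 i2 k1 k2 j1 j2
    have ni := hn i
    have nk := hn k
    have nj := hn j
    have hij' := hi i j hij
    have hkj' := hi k j hkj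
    have hik' := hi i k hik
    rw [sum_split_two hp hq hpq] at ni nk nj hij' hkj' hik'
    rw [i1, i2] at ni hij' hik'
    rw [k1, k2] at nk hkj' hik'
    rw [j1, j2] at nj hij' hkj'
    rw [← pow_two, p1] at hik'
    rw [p1] at ni nk
    rw [q1] at nj
    simp only [mul_zero, zero_mul, zero_pow two_ne_zero, add_zero, zero_add] at ni nk nj hij' hkj' hik'
    have e1 : ∑ x ∈ (s.erase p).erase q, (v i x - v j x) ^ 2 = 0 := by
      simp only [sub_sq, Finset.sum_add_distrib, Finset.sum_sub_distrib, mul_assoc, ← Finset.mul_sum, hij']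
      omega
    have e2 : ∑ x ∈ (s.erase p).erase q, (v k x - v j x) ^ 2 = 0 := by
      simp only [sub_sq, Finset.sum_add_distrib, Finset.sum_sub_distrib, mul_assoc, ← Finset.mul_sum, hkj']
      omega
    have e3 : ∑ x ∈ (s.erase p).erase q, v i x * v k x = ∑ x ∈ (s.erase p).erase q, v j x ^ 2 := by
      refine Finset.sum_congr rfl fun x hx => ?_
      have h1 := (Finset.sum_eq_zero_iff_of_nonneg fun x _ => sq_nonneg _).1 e1 x hx
      have h2 := (Finset.sum_eq_zero_iff_of_nonneg fun x _ => sq_nonneg _).1 e2 x hx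
      rw [sub_eq_zero.1 (pow_eq_zero_iff two_ne_zero |>.1 h1), sub_eq_zero.1 (pow_eq_zero_iff two_ne_zero |>.1 h2),
        pow_two]
    omega
  rcases hdic 1 (by decide) with ⟨a1, b1⟩ | ⟨b1, a1⟩ <;> rcases hdic 2 (by decide) with ⟨a2, b2⟩ | ⟨b2, a2⟩ <;>
    rcases hdic 3 (by decide) with ⟨a3, b3⟩ | ⟨b3, a3⟩
  · refine ⟨a, ha, ha1, fun i => ?_⟩
    fin_cases i <;> first | rfl | exact a1 | exact a2 | exact a3
  · exact (nbad 1 2 3 (by decide) (by decide) (by decide) a b ha hb hab ha1 hb1 a1 b1 a2 b2 b3 a3).elim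
  · exact (nbad 1 3 2 (by decide) (by decide) (by decide) a b ha hb hab ha1 hb1 a1 b1 a3 b3 b2 a2).elim
  · exact (nbad 2 3 1 (by decide) (by decide) (by decide) b a hb ha hab.symm hb1 ha1 b2 a2 b3 a3 a1 b1).elim
  · exact (nbad 2 3 1 (by decide) (by decide) (by decide) a b ha hb hab ha1 hb1 a2 b2 a3 b3 b1 a1).elim
  · exact (nbad 1 3 2 (by decide) (by decide) (by decide) b a hb ha hab.symm hb1 ha1 b1 a1 b3 a3 a2 b2).elim
  · exact (nbad 1 2 3 (by decide) (by decide) (by decide) b a hb ha hab.symm hb1 ha1 b1 a1 b2 a2 a3 b3).elim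
  · refine ⟨b, hb, hb1, fun i => ?_⟩
    fin_cases i <;> first | rfl | exact b1 | exact b2 | exact b3

/-- A vector whose four inner products with such vectors sum to zero has norm at least five times the square
of the shared coordinate. -/
theorem coord_zero {s : Finset ι} {v : Fin 4 → ι → ℤ} (hn : ∀ i, ∑ x ∈ s, v i x ^ 2 = 2)
    (hi : ∀ i j, i ≠ j → ∑ x ∈ s, v i x * v j x = 1) {e : ι} (he : e ∈ s) (h1 : v 0 e ^ 2 = 1)
    (hc : ∀ i, v i e = v 0 e) (z : ι → ℤ) (hz : ∑ x ∈ s, z x ^ 2 ≤ 4)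
    (h0 : ∑ i : Fin 4, ∑ x ∈ s, v i x * z x = 0) : z e = 0 := by
  classical
  set c := v 0 e with hcdef
  set R : Fin 4 → ℤ := fun i => ∑ x ∈ s.erase e, v i x * z x with hR
  have hn' : ∀ i, ∑ x ∈ s.erase e, v i x ^ 2 = 1 := fun i => by
    have h := hn i
    rw [← Finset.add_sum_erase s (fun x => v i x ^ 2) he, hc i, h1] at h
    omega
  have hi' : ∀ i j, i ≠ j → ∑ x ∈ s.erase e, v i x * v j x = 0 := fun i j hij => by
    have h := hi i j hij
    rw [← Finset.add_sum_erase s (fun x => v i x * v j x) he, hc i, hc j, ← pow_two, h1] at h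
    omega
  have hsum : R 0 + R 1 + R 2 + R 3 + 4 * (c * z e) = 0 := by
    rw [Fin.sum_univ_four] at h0
    simp only [← Finset.add_sum_erase s (fun x => v _ x * z x) he, hc] at h0
    simp only [hR]
    linarith
  have hbessel : R 0 ^ 2 + R 1 ^ 2 + R 2 ^ 2 + R 3 ^ 2 ≤ ∑ x ∈ s.erase e, z x ^ 2 := by
    have h : 0 ≤ ∑ x ∈ s.erase e, (z x - (R 0 * v 0 x + R 1 * v 1 x + R 2 * v 2 x + R 3 * v 3 x)) ^ 2 :=
      Finset.sum_nonneg fun x _ => sq_nonneg _
    have e' : ∀ x : ι, (z x - (R 0 * v 0 x + R 1 * v 1 x + R 2 * v 2 x + R 3 * v 3 x)) ^ 2 =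
        z x ^ 2 - 2 * R 0 * (v 0 x * z x) - 2 * R 1 * (v 1 x * z x) - 2 * R 2 * (v 2 x * z x) -
        2 * R 3 * (v 3 x * z x) + R 0 ^ 2 * v 0 x ^ 2 + R 1 ^ 2 * v 1 x ^ 2 + R 2 ^ 2 * v 2 x ^ 2 +
        R 3 ^ 2 * v 3 x ^ 2 + 2 * R 0 * R 1 * (v 0 x * v 1 x) + 2 * R 0 * R 2 * (v 0 x * v 2 x) +
        2 * R 0 * R 3 * (v 0 x * v 3 x) + 2 * R 1 * R 2 * (v 1 x * v 2 x) + 2 * R 1 * R 3 * (v 1 x * v 3 x) +
        2 * R 2 * R 3 * (v 2 x * v 3 x) := fun x => by ring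
    simp only [e', Finset.sum_add_distrib, Finset.sum_sub_distrib, ← Finset.mul_sum, hn',
      hi' 0 1 (by decide), hi' 0 2 (by decide), hi' 0 3 (by decide), hi' 1 2 (by decide), hi' 1 3 (by decide),
      hi' 2 3 (by decide)] at h
    rw [show (∑ x ∈ s.erase e, v 0 x * z x) = R 0 from rfl, show (∑ x ∈ s.erase e, v 1 x * z x) = R 1 from rfl,
      show (∑ x ∈ s.erase e, v 2 x * z x) = R 2 from rfl, show (∑ x ∈ s.erase e, v 3 x * z x) = R 3 from rfl] at h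
    nlinarith
  have hz' := hz
  rw [← Finset.add_sum_erase s (fun x => z x ^ 2) he] at hz'
  have hcz : (c * z e) ^ 2 = z e ^ 2 := by rw [mul_pow, h1, one_mul]
  have h16 : (R 0 + R 1 + R 2 + R 3) ^ 2 = 16 * z e ^ 2 := by
    rw [← hcz, show R 0 + R 1 + R 2 + R 3 = -(4 * (c * z e)) by linarith]; ring
  have h5 : 5 * z e ^ 2 ≤ 4 := by
    nlinarith [sq_nonneg (R 0 - R 1), sq_nonneg (R 2 - R 3), sq_nonneg (R 0 + R 1 - R 2 - R 3)]
  exact pow_eq_zero_iff two_ne_zero |>.1 (le_antisymm (by omega) (sq_nonneg (z e)))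

end Cfsg.Lib.Ree.Star
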