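import Cfsg.Agent.Ree.Assembly.Basic
import Cfsg.Agent.Ree.Assembly.Arith
import Cfsg.Agent.Ree.Assembly.Star

/-!
The system of seven members does not occur.
-/

set_option autoImplicit false
set_option linter.unusedSectionVars false

namespace Cfsg.Lib.Ree

open Cfsg Cfsg.Lib.Chars Cfsg.Lib.Blocks
open scoped ComplexConjugate

universe u v

namespace Ctx

variable {G : Type u} [Group G] [Fintype G] {t : G} {E : Subgroup G} [Fintype E] {F : Type v} [Field F]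
  [Fintype F]

/-- The members of the system of seven. -/
structure Seven (D : Ctx t E F) where
  o : IrrCharacter G
  C : IrrCharacter G
  B : IrrCharacter G
  W : IrrCharacter G
  P : IrrCharacter G
  R : IrrCharacter G
  Z : IrrCharacter G
  sum : ∀ {α : Type} [AddCommMonoid α] (f : IrrCharacter G → α),
    (D.R.L.map f).sum = f o + f C + f B + f W + f P + f R + f Z
  mem : o ∈ D.R.L ∧ C ∈ D.R.L ∧ B ∈ D.R.L ∧ W ∈ D.R.L ∧ P ∈ D.R.L ∧ R ∈ D.R.L ∧ Z ∈ D.R.L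
  rows : D.R.row o = (1, 0, 0) ∧ D.R.row C = (0, 0, 1) ∧ D.R.row B = (0, 1, 0) ∧ D.R.row W = (0, 1, 1) ∧
    D.R.row P = (1, 0, 1) ∧ D.R.row R = (1, 1, 0) ∧ D.R.row Z = (1, 1, 1)
  head : D.d o = -1 ∧ D.w o = -1 ∧ D.us o = -1 ∧ ∀ θ, θ ≠ 1 → D.b θ o = 0

theorem exists_seven (D : Ctx t E F) (h : D.R.L.map D.R.row =
    [(1, 0, 0), (0, 0, 1), (0, 1, 0), (0, 1, 1), (1, 0, 1), (1, 1, 0), (1, 1, 1)]) :
    Nonempty (Seven D) := by
  obtain ⟨o, L1, hL, ro, h1⟩ := List.map_eq_cons_iff.1 h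
  obtain ⟨C, L2, rfl, rC, h2⟩ := List.map_eq_cons_iff.1 h1
  obtain ⟨B, L3, rfl, rB, h3⟩ := List.map_eq_cons_iff.1 h2
  obtain ⟨W, L4, rfl, rW, h4⟩ := List.map_eq_cons_iff.1 h3
  obtain ⟨P, L5, rfl, rP, h5⟩ := List.map_eq_cons_iff.1 h4
  obtain ⟨R, L6, rfl, rR, h6⟩ := List.map_eq_cons_iff.1 h5
  obtain ⟨Z, L7, rfl, rZ, h7⟩ := List.map_eq_cons_iff.1 h6
  obtain rfl := List.map_eq_nil_iff.1 h7
  refine ⟨⟨o, C, B, W, P, R, Z, fun {α} _ f => ?_, ?_, ⟨ro, rC, rB, rW, rP, rR, rZ⟩, D.head_facts hL ro⟩⟩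
  · simp only [hL, List.map_cons, List.map_nil, List.sum_cons, List.sum_nil, add_zero, add_assoc]
  · simp [hL]

namespace Seven

variable {D : Ctx t E F} (S : Seven D)

theorem ws : D.w S.C = midVal (signedCard F) ∧ D.w S.B = midVal (signedCard F) ∧
    D.w S.W = signedCard F + 1 ∧ D.w S.P = midVal (signedCard F) - 1 ∧ D.w S.R = midVal (signedCard F) - 1 ∧
    D.w S.Z = signedCard F := by
  obtain ⟨-, rC, rB, rW, rP, rR, rZ⟩ := S.rows
  have := D.Q_mod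
  simp only [Ctx.w, rC, rB, rW, rP, rR, rZ, midVal]
  refine ⟨?_, ?_, ?_, ?_, ?_, ?_⟩ <;> omega

theorem uss : D.us S.C = 1 ∧ D.us S.B = 1 ∧ D.us S.W = 2 ∧ D.us S.P = 0 ∧ D.us S.R = 0 ∧ D.us S.Z = 1 := by
  obtain ⟨-, rC, rB, rW, rP, rR, rZ⟩ := S.rows
  simp [Ctx.us, rC, rB, rW, rP, rR, rZ]

theorem cols : D.d S.P + D.d S.R + D.d S.Z = 1 ∧ D.d S.B + D.d S.W + D.d S.R + D.d S.Z = 0 ∧
    D.d S.C + D.d S.W + D.d S.P + D.d S.Z = 0 := by
  obtain ⟨r0, rC, rB, rW, rP, rR, rZ⟩ := S.rows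
  obtain ⟨hx, ha, hb⟩ := D.columns
  rw [S.sum] at hx ha hb
  simp only [r0, rC, rB, rW, rP, rR, rZ, S.head.1] at hx ha hb
  refine ⟨?_, ?_, ?_⟩ <;> omega

/-- The two configurations at a character of the torus. -/
theorem classify {θ : D.Tb.K →* ℂˣ} (hθ : θ ≠ 1) :
    D.b θ S.P = 0 ∧ D.b θ S.R = 0 ∧ D.b θ S.Z = 0 ∧
    ((D.b θ S.W = 1 ∧ D.b θ S.B = 0 ∧ D.b θ S.C = 0 ∧ ∑ χ ∈ D.O, D.TF.a 1 θ χ ^ 2 = 2) ∨
      (D.b θ S.W = 0 ∧ D.b θ S.B = 1 ∧ D.b θ S.C = 1 ∧ ∑ χ ∈ D.O, D.TF.a 1 θ χ ^ 2 = 1)) := by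
  obtain ⟨r0, rC, rB, rW, rP, rR, rZ⟩ := S.rows
  obtain ⟨hx, ha, hb⟩ := D.targets hθ
  have hn := D.norm hθ
  have ho := D.out_pos hθ
  rw [S.sum] at hx ha hb hn
  simp only [r0, rC, rB, rW, rP, rR, rZ, S.head.2.2.2 θ hθ, mul_one, mul_zero, zero_add, add_zero,
    zero_pow two_ne_zero] at hx ha hb hn
  generalize ∑ χ ∈ D.O, D.TF.a 1 θ χ ^ 2 = out at hn ho ⊢
  generalize D.b θ S.C = bC at *
  generalize D.b θ S.B = bB at *
  generalize D.b θ S.W = bW at *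
  generalize D.b θ S.P = bP at *
  generalize D.b θ S.R = bR at *
  generalize D.b θ S.Z = bZ at *
  obtain rfl : bZ = -bP - bR := by omega
  obtain rfl : bB = 1 - bW + bP := by omega
  obtain rfl : bC = 1 - bW + bR := by omega
  have hP : -1 ≤ bP ∧ bP ≤ 1 := by constructor <;> nlinarith
  have hR : -1 ≤ bR ∧ bR ≤ 1 := by constructor <;> nlinarith
  have hW : -1 ≤ bW ∧ bW ≤ 1 := by constructor <;> nlinarith
  obtain ⟨hP, hP'⟩ := hP
  obtain ⟨hR, hR'⟩ := hR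
  obtain ⟨hW, hW'⟩ := hW
  interval_cases bP <;> interval_cases bR <;> interval_cases bW <;>
    norm_num at hn <;> omega

/-- The first configuration does not occur at the distinguished character. -/
theorem notA (hW : D.b D.TF.θ₀ S.W = 1) (hB : D.b D.TF.θ₀ S.B = 0) (hC : D.b D.TF.θ₀ S.C = 0) : False := by
  obtain ⟨hP, hR, hZ, -⟩ := S.classify D.TF.θ₀_ne
  obtain ⟨m0, mC, mB, mW, mP, mR, mZ⟩ := S.mem
  obtain ⟨wC, wB, wW, wP, wR, wZ⟩ := S.ws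
  obtain ⟨uC, uB, uW, uP, uR, uZ⟩ := S.uss
  obtain ⟨hd0, hw0, hu0, hb0⟩ := S.head
  -- the values on the members
  have hsum : ∀ i : Fin 4, i ≠ 0 → ∀ χ ∈ D.R.L, D.R.sg χ * D.TF.a i D.TF.θ₀ χ = D.b D.TF.θ₀ χ := by
    intro i hi χ hχ
    rw [Ctx.b, (D.TF.rel χ _ (fun y hy => D.value_K hχ hy) _ D.TF.θ₀_ne i hi).1]
  have hprod : ∀ (f g : IrrCharacter G → ℤ), ∑ χ, f χ * g χ =
      (D.R.L.map fun χ => (D.R.sg χ * f χ) * (D.R.sg χ * g χ)).sum + ∑ χ ∈ D.O, f χ * g χ := by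
    intro f g
    rw [D.sum_split]
    refine congrArg (· + _) (congrArg List.sum (List.map_congr_left fun χ _ => ?_))
    linear_combination -(f χ * g χ) * D.R.sg_sq χ
  have hbz : D.b0 S.o = 1 ∧ D.b0 S.C = -1 ∧ D.b0 S.B = -1 ∧ D.b0 S.W = -1 ∧ D.b0 S.P = 0 ∧ D.b0 S.R = 0 ∧
      D.b0 S.Z = -1 := by
    rw [D.b0_eq m0, D.b0_eq mC, D.b0_eq mB, D.b0_eq mW, D.b0_eq mP, D.b0_eq mR, D.b0_eq mZ, hu0, uC, uB, uW, uP,
      uR, uZ, hb0 _ D.TF.θ₀_ne, hC, hB, hW, hP, hR, hZ]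
    norm_num
  obtain ⟨z0, zC, zB, zW, zP, zR, zZ⟩ := hbz
  have hn : ∀ i, ∑ χ ∈ D.O, D.TF.a i D.TF.θ₀ χ ^ 2 = 2 := by
    intro i
    by_cases hi : i = 0
    · subst hi
      have h := D.norm_zero
      rw [S.sum, z0, zC, zB, zW, zP, zR, zZ] at h
      omega
    · have h := D.TF.norm _ D.TF.θ₀_ne i hi
      simp only [pow_two, hprod] at h
      simp only [pow_two]
      rw [S.sum, hsum i hi _ m0, hsum i hi _ mC, hsum i hi _ mB, hsum i hi _ mW, hsum i hi _ mP, hsum i hi _ mR,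
        hsum i hi _ mZ, hb0 _ D.TF.θ₀_ne, hC, hB, hW, hP, hR, hZ] at h
      omega
  have hzero : ∀ i, i ≠ 0 → ∑ χ ∈ D.O, D.TF.a i D.TF.θ₀ χ * D.TF.a 0 D.TF.θ₀ χ = 1 := by
    intro i hi
    have h := D.TF.inner_zero i hi
    rw [hprod] at h
    have e : ∀ χ, D.R.sg χ * D.TF.a 0 D.TF.θ₀ χ = D.b0 χ := fun χ => rfl
    simp only [e] at h
    rw [S.sum, hsum i hi _ m0, hsum i hi _ mC, hsum i hi _ mB, hsum i hi _ mW, hsum i hi _ mP, hsum i hi _ mR,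
      hsum i hi _ mZ, hb0 _ D.TF.θ₀_ne, hC, hB, hW, hP, hR, hZ, zW] at h
    omega
  have hi : ∀ i j, i ≠ j → ∑ χ ∈ D.O, D.TF.a i D.TF.θ₀ χ * D.TF.a j D.TF.θ₀ χ = 1 := by
    intro i j hij
    by_cases hi : i = 0
    · subst hi
      rw [← hzero j (Ne.symm hij)]
      exact Finset.sum_congr rfl fun χ _ => mul_comm _ _
    by_cases hj : j = 0
    · subst hj
      exact hzero i hi
    have h := D.TF.inner_four i j hi hj hij
    rw [hprod, S.sum, hsum i hi _ m0, hsum i hi _ mC, hsum i hi _ mB, hsum i hi _ mW, hsum i hi _ mP, hsum i hi _ mR,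
      hsum i hi _ mZ, hsum j hj _ m0, hsum j hj _ mC, hsum j hj _ mB, hsum j hj _ mW, hsum j hj _ mP, hsum j hj _ mR,
      hsum j hj _ mZ, hb0 _ D.TF.θ₀_ne, hC, hB, hW, hP, hR, hZ] at h
    omega
  obtain ⟨e, he, he1, hc⟩ := Star.star hn hi
  have heL : e ∉ D.R.L := D.mem_O.1 he
  -- the shared character vanishes at the involution
  have hcz : ∀ ψ : E → ℂ, IsSpecial ψ → (∀ χ ∈ D.R.L, coord t E χ ψ = 0) → (2 * classInner ψ ψ).re ≤ 4 →
      ∑ i : Fin 4, ∑ χ : IrrCharacter G, (D.TF.a i D.TF.θ₀ χ : ℂ) * coord t E χ ψ = 0 → coord t E e ψ = 0 := by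
    intro ψ hψ hmem hnorm h0
    choose z hz using D.SF.coord_int ψ hψ
    have hz0 : ∀ χ ∈ D.R.L, z χ = 0 := fun χ hχ => by
      have := (hz χ).symm.trans (hmem χ hχ)
      exact_mod_cast this
    rw [hz e, Star.coord_zero hn hi he he1 hc z ?_ ?_, Int.cast_zero]
    · have h := congrArg Complex.re (D.SF.isometry ψ ψ hψ hψ)
      simp only [hz, map_intCast, Complex.re_sum, Complex.mul_re, Complex.intCast_re, Complex.intCast_im,
        mul_zero, sub_zero] at h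
      have h4 : ((∑ χ ∈ D.O, z χ ^ 2 : ℤ) : ℝ) ≤ 4 := by
        push_cast
        refine le_trans ?_ (h.trans_le hnorm)
        simp only [← pow_two]
        exact Finset.sum_le_univ_sum_of_nonneg fun χ => sq_nonneg _
      exact_mod_cast h4
    · simp only [hz] at h0
      have h0' : ∑ i : Fin 4, ∑ χ : IrrCharacter G, D.TF.a i D.TF.θ₀ χ * z χ = 0 := by exact_mod_cast h0
      rw [← h0']
      refine Finset.sum_congr rfl fun i _ => Finset.sum_subset (Finset.subset_univ _) fun χ _ hχ => ?_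
      rw [hz0 χ (by by_contra hh; exact hχ (D.mem_O.2 hh)), mul_zero]
  have het : (e : G → ℂ) t = 0 := by
    have hcl : IsClassFunction E (sectVal t E e) := by
      intro y g
      have hc : t * (g : G) = (g : G) * t := (D.set.hyp.comm g g.2).eq
      show (e : G → ℂ) (t * ((g * y * g⁻¹ : E) : G)) = (e : G → ℂ) (t * (y : G))
      rw [← Chars.isClassFunction_irr e (t * (y : G)) (g : G)]
      congr 1
      push_cast
      rw [← mul_assoc, ← mul_assoc, hc, mul_assoc (g : G) t, ← mul_assoc]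
    have h := D.Tb.complete _ hcl (D.R.rest e heL).1 (D.R.rest e heL).2.1 (D.R.rest e heL).2.2
      (fun θ hθ => hcz _ (D.Tb.phi_spec θ hθ).1 (fun χ hχ => D.phi_zero hχ hθ)
        (by rw [(D.Tb.phi_spec θ hθ).2.1]; norm_num) (D.TF.phi_sum θ hθ))
      (fun j => hcz _ (D.Tb.psi_spec j).1 (fun χ hχ => D.psi_zero hχ j)
        (by rw [(D.Tb.psi_spec j).2.1]; norm_num)
        (Finset.sum_eq_zero fun i _ => D.TF.target_psi _ D.TF.θ₀_ne i j))
    simpa [sectVal] using h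
  -- the other character outside
  classical
  set a : IrrCharacter G → ℤ := D.TF.a 1 D.TF.θ₀ with ha
  have hae : a e ^ 2 = 1 := by rw [ha, hc 1]; exact he1
  obtain ⟨X, hX, hX1, hrest⟩ := Star.unit_vec (a := a) (s := D.O.erase e) (by
    have h := hn 1
    rw [← Finset.add_sum_erase D.O (fun χ => D.TF.a 1 D.TF.θ₀ χ ^ 2) he] at h
    simp only [ha] at hae ⊢
    omega)
  have hout : ∀ g : IrrCharacter G → ℂ, (∀ χ, a χ = 0 → g χ = 0) → ∑ χ ∈ D.O, g χ = g e + g X := fun g hg => by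
    rw [← Finset.add_sum_erase D.O g he]
    exact congrArg _ (Finset.sum_eq_single X (fun χ hχ hne => hg χ (hrest χ hχ hne)) (fun h => absurd hX h))
  have ham : ∀ χ ∈ D.R.L, (a χ : ℂ) = (D.R.sg χ : ℂ) * (D.b D.TF.θ₀ χ : ℂ) := fun χ _ => by
    rw [ha, Ctx.b]; push_cast; rw [← mul_assoc, D.sg_c, one_mul]
  have h1 := D.TF.at_one _ D.TF.θ₀_ne 1
  have ht := D.TF.at_t _ D.TF.θ₀_ne 1
  have hk := D.TF.count _ D.TF.θ₀_ne 1 (by decide)
  rw [← ha] at h1 ht hk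
  rw [D.sum_split, hout _ (fun χ h => by simp [h]), S.sum, ham _ m0, ham _ mC, ham _ mB, ham _ mW, ham _ mP,
    ham _ mR, ham _ mZ, hb0 _ D.TF.θ₀_ne, hC, hB, hW, hP, hR, hZ, D.deg_c S.W] at h1
  rw [D.sum_split, hout _ (fun χ h => by simp [h]), S.sum, ham _ m0, ham _ mC, ham _ mB, ham _ mW, ham _ mP,
    ham _ mR, ham _ mZ, hb0 _ D.TF.θ₀_ne, hC, hB, hW, hP, hR, hZ, D.value_t mW, wW, het] at ht
  rw [D.sum_split, hout _ (fun χ h => by simp [h]), S.sum, ham _ m0, ham _ mC, ham _ mB, ham _ mW, ham _ mP,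
    ham _ mR, ham _ mZ, hb0 _ D.TF.θ₀_ne, hC, hB, hW, hP, hR, hZ, D.value_t mW, D.deg_c S.W, wW, het] at hk
  push_cast at h1 ht hk
  simp only [zero_mul, mul_zero, zero_add, add_zero, mul_one, one_mul, zero_div, zero_pow two_ne_zero] at h1 ht hk
  have hs : (D.R.sg S.W : ℂ) * D.R.sg S.W = 1 := D.sg_c _
  have hdW : (D.d S.W : ℂ) ≠ 0 := by exact_mod_cast D.d_ne _
  have hX0 : (X : G → ℂ) 1 ≠ 0 := by rw [irr_apply_one_eq_deg]; exact_mod_cast (deg_irr_pos X).ne'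
  have he0 : (e : G → ℂ) 1 ≠ 0 := by rw [irr_apply_one_eq_deg]; exact_mod_cast (deg_irr_pos e).ne'
  have hX1' : (a X : ℂ) ^ 2 = 1 := by exact_mod_cast hX1
  have haec : (a e : ℂ) ^ 2 = 1 := by exact_mod_cast hae
  have hs0 : (D.R.sg S.W : ℂ) ≠ 0 := fun h => by simp [h] at hs
  field_simp at hk
  have hQ1 : ((signedCard F : ℂ) + 1) ^ 2 ≠ 0 := pow_ne_zero 2 (by
    exact_mod_cast (show signedCard F + 1 ≠ 0 by have := D.Q_mod; omega))
  have hXt : (a X : ℂ) * (X : G → ℂ) t = -((signedCard F : ℂ) + 1) := by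
    linear_combination ht - ((signedCard F : ℂ) + 1) * hs
  have hXd : (a X : ℂ) * (X : G → ℂ) 1 = -(D.d S.W : ℂ) := by
    have key : ((signedCard F : ℂ) + 1) ^ 2 * ((a X : ℂ) * (X : G → ℂ) 1 + D.d S.W) = 0 := by
      linear_combination (a X : ℂ) * hk + (((signedCard F : ℂ) + 1 - (a X : ℂ) * (X : G → ℂ) t) * (D.d S.W : ℂ)) * hXt -
        (((signedCard F : ℂ) + 1) ^ 2 * (a X : ℂ) * (X : G → ℂ) 1) * hs
    have h := (mul_eq_zero.1 key).resolve_left hQ1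
    linear_combination h
  have hzero : (a e : ℂ) * (e : G → ℂ) 1 = 0 := by
    linear_combination h1 - hXd - (D.d S.W : ℂ) * hs
  rcases mul_eq_zero.1 hzero with h | h
  · rw [h] at haec; norm_num at haec
  · exact he0 h

/-- The system of seven does not occur. -/
theorem result (S : Seven D) : False := by
  obtain ⟨m0, mC, mB, mW, mP, mR, mZ⟩ := S.mem
  obtain ⟨wC, wB, wW, wP, wR, wZ⟩ := S.ws
  obtain ⟨uC, uB, uW, uP, uR, uZ⟩ := S.uss
  obtain ⟨hd0, hw0, hu0, hb0⟩ := S.head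
  obtain ⟨hcx, hca, hcb⟩ := S.cols
  obtain ⟨r0, rC, rB, rW, rP, rR, rZ⟩ := S.rows
  -- only the second configuration occurs
  obtain ⟨hP, hR, hZ, ⟨hW, hB, hC, -⟩ | ⟨hW, hB, hC, hone⟩⟩ := S.classify D.TF.θ₀_ne
  · exact S.notA hW hB hC
  have same : ∀ θ θ' : D.Tb.K →* ℂˣ, θ ≠ 1 → θ' ≠ 1 → θ ≠ θ' → θ ≠ θ'⁻¹ → D.b θ' S.W = 0 → D.b θ S.W = 0 := by
    intro θ θ' hθ hθ' n1 n2 hW'
    obtain ⟨p1, r1, z1, ⟨w1, b1, c1, o1⟩ | ⟨w1, -⟩⟩ := S.classify hθ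
    · obtain ⟨p2, r2, z2, ⟨w2, -⟩ | ⟨w2, b2, c2, o2⟩⟩ := S.classify hθ'
      · omega
      have hin := D.inner hθ' hθ n1 n2
      have hle := D.inner_le (θ := θ') (θ' := θ)
      rw [o1, o2] at hle
      rw [S.sum, hb0 _ hθ, hb0 _ hθ', p1, r1, z1, w1, b1, c1, p2, r2, z2, w2, b2, c2] at hin
      omega
    · exact w1
  have hall : ∀ θ : D.Tb.K →* ℂˣ, θ ≠ 1 → D.b θ S.W = 0 ∧ D.b θ S.B = 1 ∧ D.b θ S.P = 0 ∧ D.b θ S.Z = 0 := by
    intro θ hθ
    have hw : D.b θ S.W = 0 := by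
      by_cases e : θ = D.TF.θ₀
      · exact e ▸ hW
      by_cases e' : θ = D.TF.θ₀⁻¹
      · obtain ⟨θ', hθ', n1, n2⟩ := D.exists_third D.TF.θ₀
        refine same θ θ' hθ hθ' (e'.trans_ne (Ne.symm n2)) ?_ (same θ' _ hθ' D.TF.θ₀_ne n1 n2 hW)
        rw [e']
        exact fun h => n1 (inv_injective h).symm
      · exact same θ _ hθ D.TF.θ₀_ne e e' hW
    obtain ⟨p1, r1, z1, ⟨w1, -⟩ | ⟨-, b1, -, -⟩⟩ := S.classify hθ
    · omega
    · exact ⟨hw, b1, p1, z1⟩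
  have hQm := D.Q_mod
  obtain ⟨M, hM⟩ : ∃ M, midVal (signedCard F) = M := ⟨_, rfl⟩
  have hQM : signedCard F = 2 * M - 1 := by rw [← hM, midVal]; omega
  rw [hM] at wC wB wP wR
  have hh : (D.h : ℂ) ≠ 0 := by exact_mod_cast D.d_pos_h.ne'
  have hMc : (signedCard F : ℂ) = 2 * (M : ℂ) - 1 := by exact_mod_cast hQM
  have hM0 : (M : ℂ) ≠ 0 := by exact_mod_cast (show M ≠ 0 by omega)
  have hQ0 : (signedCard F : ℂ) ≠ 0 := by exact_mod_cast (show signedCard F ≠ 0 by omega)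
  have nB : (D.d S.B : ℂ) ≠ 0 := by exact_mod_cast D.d_ne _
  -- the degrees of the members with multiplicity one
  have hBC : D.d S.C = D.d S.B := by
    have e := D.single_b D.TF.θ₀_ne hone
    rw [S.sum, S.sum, S.sum] at e
    simp only [hb0 _ D.TF.θ₀_ne, hC, hB, hW, hP, hR, hZ, wC, wB] at e
    push_cast at e
    simp only [zero_mul, zero_div, one_mul, zero_add, add_zero] at e
    have nC : (D.d S.C : ℂ) ≠ 0 := by exact_mod_cast D.d_ne _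
    field_simp at e
    have h : (M : ℂ) ^ 2 * ((D.d S.C : ℂ) - D.d S.B) ^ 2 = 0 := by
      first
        | linear_combination e
        | linear_combination ((M : ℂ) ^ 2) * e
    exact_mod_cast sub_eq_zero.1 (pow_eq_zero_iff two_ne_zero |>.1
      ((mul_eq_zero.1 h).resolve_left (pow_ne_zero 2 hM0)))
  have hPR : D.d S.R = D.d S.P := by omega
  -- the two counts
  obtain ⟨kx, ka, -⟩ := D.counts
  rw [S.sum] at kx ka
  simp only [r0, rC, rB, rW, rP, rR, rZ, hd0, hw0, wC, wB, wW, wP, wR, wZ, hPR] at kx ka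
  push_cast at kx ka
  simp only [zero_mul, zero_div, one_mul, zero_add, add_zero] at kx ka
  -- the function with trivial character of the four-group
  have hone0 : ∑ χ ∈ D.O, D.TF.a 0 D.TF.θ₀ χ ^ 2 = 1 := by
    have hn := D.norm_zero
    rw [S.sum, D.b0_eq m0, D.b0_eq mC, D.b0_eq mB, D.b0_eq mW, D.b0_eq mP, D.b0_eq mR, D.b0_eq mZ,
      hb0 _ D.TF.θ₀_ne, hC, hB, hW, hP, hR, hZ, hu0, uC, uB, uW, uP, uR, uZ] at hn
    norm_num at hn
    omega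
  have f := D.single_zero hone0
  rw [S.sum, S.sum, S.sum, D.b0_eq m0, D.b0_eq mC, D.b0_eq mB, D.b0_eq mW, D.b0_eq mP, D.b0_eq mR, D.b0_eq mZ,
    hb0 _ D.TF.θ₀_ne, hC, hB, hW, hP, hR, hZ, hu0, uC, uB, uW, uP, uR, uZ, hd0, hw0, wW, wZ] at f
  push_cast at f
  have hsum : -1 - 2 * (D.d S.W : ℂ) - D.d S.Z = 2 * D.d S.B := by
    exact_mod_cast (show -1 - 2 * D.d S.W - D.d S.Z = 2 * D.d S.B by omega)
  have fg : -(1 : ℂ) - 2 * ((signedCard F : ℂ) + 1) ^ 2 / (D.d S.W : ℂ) -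
      (signedCard F : ℂ) ^ 2 / (D.d S.Z : ℂ) +
      ((signedCard F : ℂ) - 1) * signedCard F * ((signedCard F : ℂ) ^ 2 - 1) / (D.h : ℂ) =
      9 * ((signedCard F : ℂ) + 1) ^ 2 / (2 * (D.d S.B : ℂ)) := by
    rw [eq_div_iff (mul_ne_zero two_ne_zero nB)]
    linear_combination f - (-1 - 2 * ((signedCard F : ℂ) + 1) ^ 2 / (D.d S.W : ℂ) -
      (signedCard F : ℂ) ^ 2 / (D.d S.Z : ℂ) +
      ((signedCard F : ℂ) - 1) * signedCard F * ((signedCard F : ℂ) ^ 2 - 1) / (D.h : ℂ)) * hsum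
  -- the number of involutions
  have hhM : (D.h : ℂ) * M = -(signedCard F : ℂ) ^ 2 * D.d S.B := by
    have e1 := congrArg (fun z => z * (D.h : ℂ)) fg
    simp only [add_mul, div_mul_cancel₀ _ hh] at e1
    have key : ((D.h : ℂ) * M + (signedCard F : ℂ) ^ 2 * D.d S.B) * (16 * M / (D.d S.B : ℂ)) = 0 := by
      rw [hMc] at kx ka e1 ⊢
      have hi : (D.d S.B : ℂ) * (D.d S.B : ℂ)⁻¹ = 1 := mul_inv_cancel₀ nB
      linear_combination -2 * ka + kx - e1 + (16 * (2 * (M : ℂ) - 1) ^ 2 * M) * hi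
    have h := (mul_eq_zero.1 key).resolve_right (div_ne_zero (mul_ne_zero (by norm_num) hM0) nB)
    linear_combination h
  have hhMz : D.h * M = -signedCard F ^ 2 * D.d S.B := by exact_mod_cast hhM
  obtain ⟨g, hg⟩ : M ∣ -D.d S.B := by
    have h1 : IsCoprime M (signedCard F ^ 2) := IsCoprime.pow_right ⟨2, -1, by omega⟩
    exact h1.dvd_of_dvd_mul_left ⟨D.h, by linear_combination -hhMz⟩
  have hhg : D.h = signedCard F ^ 2 * g := by
    refine mul_right_cancel₀ (show M ≠ 0 by omega) ?_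
    linear_combination hhMz + signedCard F ^ 2 * hg
  have hg0 : g ≠ 0 := fun h => D.d_ne S.B (by rw [h, mul_zero] at hg; omega)
  have hBg : D.d S.B = -M * g := by rw [neg_mul, ← hg, neg_neg]
  -- the congruences
  have cZ := D.d_congr mZ
  rw [wZ] at cZ
  have kB := D.congr_k mB (α := 1) fun θ hθ => (hall θ hθ).2.1
  have kZ := D.congr_k mZ (α := 0) fun θ hθ => (hall θ hθ).2.2.2
  rw [uB] at kB
  rw [uZ] at kZ
  have hP2 : 2 * D.d S.P = 1 - D.d S.Z := by omega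
  have nP : (D.d S.P : ℂ) ≠ 0 := by exact_mod_cast D.d_ne _
  have nZ : (D.d S.Z : ℂ) ≠ 0 := by exact_mod_cast D.d_ne _
  have hxz : (D.d S.Z - signedCard F) ^ 2 * signedCard F * g =
      (signedCard F + 1) ^ 2 * (signedCard F - 1) * D.d S.Z * (D.d S.Z - 1) := by
    have hP2c : 2 * (D.d S.P : ℂ) = 1 - D.d S.Z := by exact_mod_cast hP2
    have hhgc : (D.h : ℂ) = (signedCard F : ℂ) ^ 2 * g := by exact_mod_cast hhg
    rw [hhgc] at kx
    field_simp at kx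
    have key : (signedCard F : ℂ) * (((D.d S.Z : ℂ) - signedCard F) ^ 2 * signedCard F * g -
        ((signedCard F : ℂ) + 1) ^ 2 * ((signedCard F : ℂ) - 1) * D.d S.Z * ((D.d S.Z : ℂ) - 1)) = 0 := by
      rw [hMc] at kx ⊢
      first
        | linear_combination 2 * kx - ((2 * (M : ℂ) - 1) * ((g : ℂ) * ((2 * (M : ℂ) - 1) * (-(D.d S.Z : ℂ) + (2 * (M : ℂ) - 1) ^ 2)) + ((2 * (M : ℂ) - 1) + 1) * ((2 * (M : ℂ) - 1) ^ 2 - 1) * D.d S.Z)) * hP2c
        | linear_combination 2 * (2 * (M : ℂ) - 1) * kx - ((2 * (M : ℂ) - 1) * ((g : ℂ) * ((2 * (M : ℂ) - 1) * (-(D.d S.Z : ℂ) + (2 * (M : ℂ) - 1) ^ 2)) + ((2 * (M : ℂ) - 1) + 1) * ((2 * (M : ℂ) - 1) ^ 2 - 1) * D.d S.Z)) * hP2c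
    have h := (mul_eq_zero.1 key).resolve_left hQ0
    exact_mod_cast sub_eq_zero.1 h
  refine no_seven (Q := signedCard F) (h := D.h) (M := M) (r := D.d S.Z) (g := g) (dW := D.d S.W)
    D.Q_pp hQm D.Q_abs hQM hhg hg0 (by omega) (by omega) cZ.2 hxz
    (by convert kZ using 1; ring) (by convert kB using 1; rw [hBg]; ring) ?_
  rw [← hBg]
  apply Rat.cast_injective (α := ℂ)
  push_cast
  linear_combination fg

end Seven

end Ctx

end Cfsg.Lib.Ree
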