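import Cfsg.Agent.Ree.Assembly.SysFive
import Cfsg.Agent.Ree.Assembly.SysFour

/-!
The assembly: the order of the group from the rows at the section of the involution and the functions of the
torus.
-/

set_option autoImplicit false

namespace Cfsg.Lib.Ree

open Cfsg Cfsg.Lib.Blocks

universe u v

namespace Ctx

variable {G : Type u} [Group G] [Fintype G] {t : G} {E : Subgroup G} [Fintype E] {F : Type v} [Field F]
  [Fintype F] (D : Ctx t E F)

/-- A column of even coordinates cannot meet its target. -/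
theorem even_false (f : IrrCharacter G → ℤ) (hf : ∀ χ ∈ D.R.L, 2 ∣ f χ) {θ : D.Tb.K →* ℂˣ}
    (h : (D.R.L.map fun χ => D.b θ χ * f χ).sum = 1) : False := by
  have h2 : (2 : ℤ) ∣ (D.R.L.map fun χ => D.b θ χ * f χ).sum := List.dvd_sum fun x hx => by
    obtain ⟨χ, hχ, rfl⟩ := List.mem_map.1 hx
    exact (hf χ hχ).mul_left _
  rw [h] at h2
  omega

include D in
/-- The order of the group. -/
theorem order : ∃ m : ℕ, 1 ≤ m ∧ signedCard F = -(3 ^ (2 * m + 1)) ∧
    D.h = signedCard F ^ 2 * (signedCard F ^ 2 + signedCard F + 1) := by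
  have h := D.R.mem_systems
  simp only [systems, List.mem_cons, List.not_mem_nil, or_false] at h
  rcases h with h | h | h | h
  · refine (D.even_false _ (fun χ hχ => ?_) (D.targets D.TF.θ₀_ne).2.2).elim
    have hm : D.R.row χ ∈ D.R.L.map D.R.row := List.mem_map_of_mem hχ
    rw [h] at hm
    revert hm
    generalize D.R.row χ = r
    revert r
    simp
  · refine (D.even_false _ (fun χ hχ => ?_) (D.targets D.TF.θ₀_ne).2.1).elim
    have hm : D.R.row χ ∈ D.R.L.map D.R.row := List.mem_map_of_mem hχ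
    rw [h] at hm
    revert hm
    generalize D.R.row χ = r
    revert r
    simp
  · obtain ⟨S⟩ := D.exists_seven h
    exact S.result.elim
  · obtain ⟨S⟩ := D.exists_five h
    exact S.result

end Ctx

/-- The order of a simple group of Ree type from the pieces. -/
theorem assemblySpec : AssemblySpec.{u, v} := by
  intro G _ _ t E _ F _ _ hset Tb M _ SF SB R TF
  let D : Ctx t E F := ⟨hset, Tb, M, SF, SB, R, TF⟩
  obtain ⟨m, hm, hQ, hh⟩ := D.order
  have hF : (Fintype.card F : ℤ) = 3 ^ (2 * m + 1) := by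
    rw [D.card_F.1, hQ]
    simp
  have hFn : Fintype.card F = 3 ^ (2 * m + 1) := by exact_mod_cast hF
  refine ⟨m, hm, hFn, ?_⟩
  have ho := SF.order
  rw [hFn] at ho
  rw [ho]
  generalize hq : (3 : ℕ) ^ (2 * m + 1) = q
  have h1 : 1 ≤ q := hq ▸ Nat.one_le_pow _ _ (by norm_num)
  have hqz : ((q : ℤ)) = 3 ^ (2 * m + 1) := by rw [← hq]; push_cast; ring
  rw [← hqz] at hQ
  have hidx : ((Subgroup.centralizer ({t} : Set G)).index : ℤ) = (q : ℤ) ^ 2 * ((q : ℤ) ^ 2 - q + 1) := by
    have h' : D.h = ((Subgroup.centralizer ({t} : Set G)).index : ℤ) := rfl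
    rw [← h', hh, hQ]
    ring
  have h2 : 1 ≤ q ^ 2 := Nat.one_le_pow _ _ h1
  zify [h1, h2]
  rw [hidx]
  ring

end Cfsg.Lib.Ree
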