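import Cfsg.Agent.Ree.Torus.Spec
import Cfsg.Agent.Ree.Arith.Spec

/-!
The assembly: the signed degrees, values and multiplicities of the members, and the sums split over the members.
-/

set_option autoImplicit false
set_option linter.style.haveILetI false
set_option linter.unusedSectionVars false

namespace Cfsg.Lib.Ree

open Cfsg Cfsg.Lib.Chars Cfsg.Lib.Blocks
open scoped ComplexConjugate

universe u v

/-- Everything the assembly uses. -/
structure Ctx {G : Type u} [Group G] [Fintype G] (t : G) (E : Subgroup G) [Fintype E] (F : Type v) [Field F]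
    [Fintype F] where
  set : Setting t E F
  Tb : PSLTable E (signedCard F)
  M : Ideal AlgInt
  SF : SectFacts t E F
  SB : SectBlock t E Tb M
  R : RowFamily t E Tb
  TF : TorusFun (t := t) Tb

namespace Ctx

variable {G : Type u} [Group G] [Fintype G] {t : G} {E : Subgroup G} [Fintype E] {F : Type v} [Field F]
  [Fintype F] (D : Ctx t E F)

/-- The number of involutions. -/
noncomputable def h (_ : Ctx t E F) : ℤ := ((Subgroup.centralizer ({t} : Set G)).index : ℤ)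

/-- The signed degree of a member. -/
noncomputable def d (χ : IrrCharacter G) : ℤ := D.R.sg χ * (deg (χ : G → ℂ) : ℤ)

/-- The signed value at the involution. -/
noncomputable def w (χ : IrrCharacter G) : ℤ :=
  -(D.R.row χ).1 + ((D.R.row χ).2.1 + (D.R.row χ).2.2) * midVal (signedCard F)

/-- The signed value at `t` times a nontrivial element of the torus. -/
def us (χ : IrrCharacter G) : ℤ := -(D.R.row χ).1 + (D.R.row χ).2.1 + (D.R.row χ).2.2

/-- The signed multiplicity in the functions with nontrivial character of `V`. -/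
def b (θ : D.Tb.K →* ℂˣ) (χ : IrrCharacter G) : ℤ := D.R.sg χ * D.TF.a 1 θ χ

/-- The signed multiplicity in the function with trivial character of `V`. -/
def b0 (χ : IrrCharacter G) : ℤ := D.R.sg χ * D.TF.a 0 D.TF.θ₀ χ

/-- The characters which are not members. -/
noncomputable def O : Finset (IrrCharacter G) := by
  classical
  exact Finset.univ.filter fun χ => χ ∉ D.R.L

theorem mem_O {χ : IrrCharacter G} : χ ∈ D.O ↔ χ ∉ D.R.L := by
  classical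
  unfold O
  simp

theorem sum_split {α : Type*} [AddCommMonoid α] (f : IrrCharacter G → α) :
    ∑ χ, f χ = (D.R.L.map f).sum + ∑ χ ∈ D.O, f χ := by
  classical
  rw [← List.sum_toFinset f D.R.nodup,
    show D.O = D.R.L.toFinsetᶜ by ext χ; simp [D.mem_O], Finset.sum_add_sum_compl]

theorem sg_c (χ : IrrCharacter G) : ((D.R.sg χ : ℂ)) * D.R.sg χ = 1 := by exact_mod_cast D.R.sg_sq χ

theorem eq_sg_mul (χ : IrrCharacter G) {z x : ℂ} (h : (D.R.sg χ : ℂ) * x = z) : x = D.R.sg χ * z := by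
  rw [← h, ← mul_assoc, D.sg_c, one_mul]

theorem row_ne {χ : IrrCharacter G} (hχ : χ ∈ D.R.L) : D.R.row χ ≠ (0, 0, 0) := by
  have key : ∀ l ∈ systems, ∀ r ∈ l, r ≠ ((0, 0, 0) : ℤ × ℤ × ℤ) := by decide
  exact key _ D.R.mem_systems _ (List.mem_map_of_mem hχ)

theorem mem_block {χ : IrrCharacter G} (hχ : χ ∈ D.R.L) : χ ∈ principalBlock D.M G := by
  by_contra hn
  obtain ⟨h1, h2, h3⟩ := D.SB.outside χ hn
  obtain ⟨e1, e2, e3⟩ := D.R.coords χ hχ
  have hz : ∀ z : ℤ, ((D.R.sg χ * z : ℤ) : ℂ) = 0 → z = 0 := fun z hz => by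
    rcases mul_eq_zero.1 (Int.cast_eq_zero.1 hz) with e | e
    · have := D.R.sg_sq χ
      rw [e] at this
      norm_num at this
    · exact e
  exact D.row_ne hχ (Prod.ext (hz _ (e1 ▸ h1)) (Prod.ext (hz _ (e2 ▸ h2)) (hz _ (e3 ▸ h3))))

theorem value {χ : IrrCharacter G} (hχ : χ ∈ D.R.L) {y : E} (hy : Odd (orderOf y)) :
    (χ : G → ℂ) (t * (y : G)) = (D.R.sg χ : ℂ) *
      (-(D.R.row χ).1 + (D.R.row χ).2.1 * D.Tb.A y + (D.R.row χ).2.2 * D.Tb.B y) := by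
  obtain ⟨e1, e2, e3⟩ := D.R.coords χ hχ
  rw [show (χ : G → ℂ) (t * (y : G)) = sectVal t E χ y from rfl, (D.SB.inside χ (D.mem_block hχ)).1 y hy, e1, e2, e3]
  push_cast
  ring

theorem phi_zero {χ : IrrCharacter G} (hχ : χ ∈ D.R.L) {θ : D.Tb.K →* ℂˣ} (hθ : θ ≠ 1) :
    coord t E χ (D.Tb.phi θ) = 0 := (D.SB.inside χ (D.mem_block hχ)).2.1 θ hθ

theorem psi_zero {χ : IrrCharacter G} (hχ : χ ∈ D.R.L) (j : D.Tb.J) : coord t E χ (D.Tb.psi j) = 0 :=
  (D.SB.inside χ (D.mem_block hχ)).2.2 j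

theorem value_t {χ : IrrCharacter G} (hχ : χ ∈ D.R.L) : (χ : G → ℂ) t = (D.R.sg χ : ℂ) * (D.w χ : ℂ) := by
  have h := D.value hχ (y := 1) (by rw [orderOf_one]; exact odd_one)
  rw [D.Tb.A_one, D.Tb.B_one, OneMemClass.coe_one, mul_one] at h
  rw [h, Ctx.w, midVal]
  push_cast
  ring

theorem value_K {χ : IrrCharacter G} (hχ : χ ∈ D.R.L) {y : D.Tb.K} (hy : y ≠ 1) :
    (χ : G → ℂ) (t * ((y : E) : G)) = ((D.R.sg χ * D.us χ : ℤ) : ℂ) := by
  have hy' : (y : E) ≠ 1 := fun e => hy (Subtype.ext e)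
  obtain ⟨hA, hB, -⟩ := D.Tb.torus _ y.2 hy'
  rw [D.value hχ ((D.Tb.comm _).1 y.2).1, hA, hB, Ctx.us]
  push_cast
  ring

theorem a_eq {χ : IrrCharacter G} (hχ : χ ∈ D.R.L) {θ : D.Tb.K →* ℂˣ} (hθ : θ ≠ 1) :
    D.R.sg χ * D.TF.a 0 θ χ = D.b θ χ - D.us χ := by
  obtain ⟨-, e⟩ := D.TF.rel χ _ (fun y hy => D.value_K hχ hy) θ hθ 1 (by decide)
  rw [Ctx.b, e]
  linear_combination -(D.us χ) * D.R.sg_sq χ

theorem b0_eq {χ : IrrCharacter G} (hχ : χ ∈ D.R.L) : D.b0 χ = D.b D.TF.θ₀ χ - D.us χ :=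
  D.a_eq hχ D.TF.θ₀_ne

theorem deg_c (χ : IrrCharacter G) : (χ : G → ℂ) 1 = (D.R.sg χ : ℂ) * (D.d χ : ℂ) := by
  rw [irr_apply_one_eq_deg, Ctx.d]
  push_cast
  rw [← mul_assoc, D.sg_c, one_mul]

theorem d_ne (χ : IrrCharacter G) : D.d χ ≠ 0 := by
  refine mul_ne_zero (fun e => ?_) (by exact_mod_cast (deg_irr_pos χ).ne')
  have := D.R.sg_sq χ
  rw [e] at this
  norm_num at this

theorem d_congr {χ : IrrCharacter G} (hχ : χ ∈ D.R.L) : (8 : ℤ) ∣ D.d χ - D.w χ ∧ D.d χ ∣ D.h * D.w χ := by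
  obtain ⟨u, hu, h8, hd⟩ := D.SF.value_int χ
  have hu' : u = D.R.sg χ * D.w χ := by
    have := hu.symm.trans (D.value_t hχ)
    exact_mod_cast this
  have hs : IsUnit (D.R.sg χ) := IsUnit.of_mul_eq_one _ (D.R.sg_sq χ)
  refine ⟨?_, ?_⟩
  · have h := h8.mul_left (D.R.sg χ)
    rw [hu', mul_sub, ← mul_assoc, D.R.sg_sq, one_mul] at h
    exact h
  · rw [Ctx.d]
    refine (IsUnit.mul_left_dvd hs).2 ?_
    rw [hu', mul_left_comm] at hd
    exact (IsUnit.dvd_mul_left hs).1 hd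

theorem d_pos_h : 0 < D.h := by
  rw [Ctx.h]; exact_mod_cast Nat.pos_of_ne_zero Subgroup.index_ne_zero_of_finite

theorem odd_h : Odd D.h := by rw [Ctx.h, Int.odd_coe_nat]; exact D.SF.index

/-- A sum against the coordinates at a special function which vanishes outside the members. -/
theorem sum_members (ψ : E → ℂ) (h0 : ∀ χ, χ ∉ D.R.L → coord t E χ ψ = 0) (g : IrrCharacter G → ℂ) :
    ∑ χ, g χ * coord t E χ ψ = (D.R.L.map fun χ => g χ * coord t E χ ψ).sum := by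
  rw [D.sum_split, Finset.sum_eq_zero (fun χ hχ => by rw [h0 χ (D.mem_O.1 hχ), mul_zero]), add_zero]

/-- The three columns. -/
theorem columns :
    (D.R.L.map fun χ => ((D.R.row χ).1 * D.d χ : ℤ)).sum = 0 ∧
    (D.R.L.map fun χ => ((D.R.row χ).2.1 * D.d χ : ℤ)).sum = 0 ∧
    (D.R.L.map fun χ => ((D.R.row χ).2.2 * D.d χ : ℤ)).sum = 0 := by
  have key : ∀ (ψ : E → ℂ) (r : IrrCharacter G → ℤ), IsSpecial ψ → (∀ χ, χ ∉ D.R.L → coord t E χ ψ = 0) →
      (∀ χ ∈ D.R.L, coord t E χ ψ = ((D.R.sg χ * r χ : ℤ) : ℂ)) →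
      (D.R.L.map fun χ => r χ * D.d χ).sum = 0 := by
    intro ψ r hψ h0 hr
    have h := D.SF.degree ψ hψ
    rw [D.sum_split, Finset.sum_eq_zero (fun χ hχ => by rw [h0 χ (D.mem_O.1 hχ), zero_mul]), add_zero] at h
    apply (Int.castRingHom ℂ).injective_int
    rw [map_list_sum, List.map_map, map_zero, ← h]
    congr 1
    refine List.map_congr_left fun χ hχ => ?_
    simp only [Function.comp_apply, Int.coe_castRingHom, Int.cast_mul, hr χ hχ, D.deg_c]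
    linear_combination (-(r χ : ℂ) * (D.d χ : ℂ)) * D.sg_c χ
  exact ⟨key _ _ D.Tb.spec_x (fun χ h => (D.R.rest χ h).1) (fun χ h => (D.R.coords χ h).1),
    key _ _ D.Tb.spec_al (fun χ h => (D.R.rest χ h).2.1) (fun χ h => (D.R.coords χ h).2.1),
    key _ _ D.Tb.spec_be (fun χ h => (D.R.rest χ h).2.2) (fun χ h => (D.R.coords χ h).2.2)⟩

/-- The targets. -/
theorem targets {θ : D.Tb.K →* ℂˣ} (hθ : θ ≠ 1) :
    (D.R.L.map fun χ => D.b θ χ * (D.R.row χ).1).sum = 0 ∧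
    (D.R.L.map fun χ => D.b θ χ * (D.R.row χ).2.1).sum = 1 ∧
    (D.R.L.map fun χ => D.b θ χ * (D.R.row χ).2.2).sum = 1 := by
  have key : ∀ (ψ : E → ℂ) (r : IrrCharacter G → ℤ) (c : ℤ), (∀ χ, χ ∉ D.R.L → coord t E χ ψ = 0) →
      (∀ χ ∈ D.R.L, coord t E χ ψ = ((D.R.sg χ * r χ : ℤ) : ℂ)) →
      ∑ χ : IrrCharacter G, (D.TF.a 1 θ χ : ℂ) * coord t E χ ψ = (c : ℂ) →
      (D.R.L.map fun χ => D.b θ χ * r χ).sum = c := by
    intro ψ r c h0 hr h
    rw [D.sum_members ψ h0] at h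
    apply (Int.castRingHom ℂ).injective_int
    rw [map_list_sum, List.map_map, Int.coe_castRingHom]
    beta_reduce
    rw [← h]
    congr 1
    refine List.map_congr_left fun χ hχ => ?_
    simp only [Function.comp_apply, Int.coe_castRingHom, hr χ hχ, Ctx.b]
    push_cast
    ring
  exact ⟨key _ _ 0 (fun χ h => (D.R.rest χ h).1) (fun χ h => (D.R.coords χ h).1)
      (by rw [D.TF.target_x θ hθ 1]; simp),
    key _ _ 1 (fun χ h => (D.R.rest χ h).2.1) (fun χ h => (D.R.coords χ h).2.1)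
      (by rw [D.TF.target_al θ hθ 1]; simp),
    key _ _ 1 (fun χ h => (D.R.rest χ h).2.2) (fun χ h => (D.R.coords χ h).2.2)
      (by rw [D.TF.target_be θ hθ 1]; simp)⟩

theorem list_sq (a : IrrCharacter G → ℤ) :
    (D.R.L.map fun χ => (D.R.sg χ * a χ) ^ 2).sum = (D.R.L.map fun χ => a χ ^ 2).sum :=
  congrArg List.sum (List.map_congr_left fun χ _ => by rw [mul_pow, pow_two (D.R.sg χ), D.R.sg_sq, one_mul])

theorem norm {θ : D.Tb.K →* ℂˣ} (hθ : θ ≠ 1) :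
    (D.R.L.map fun χ => D.b θ χ ^ 2).sum + ∑ χ ∈ D.O, D.TF.a 1 θ χ ^ 2 = 3 := by
  rw [← D.TF.norm θ hθ 1 (by decide), D.sum_split]
  exact congrArg (· + _) (D.list_sq _)

theorem norm_zero :
    (D.R.L.map fun χ => D.b0 χ ^ 2).sum + ∑ χ ∈ D.O, D.TF.a 0 D.TF.θ₀ χ ^ 2 = 7 := by
  rw [← D.TF.norm_zero, D.sum_split]
  exact congrArg (· + _) (D.list_sq _)

theorem out_pos_of {θ : D.Tb.K →* ℂˣ} (hθ : θ ≠ 1) (i : Fin 4)
    (hne : ∑ χ : IrrCharacter G, (D.TF.a i θ χ : ℂ) * coord t E χ (D.Tb.phi θ) ≠ 0) :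
    1 ≤ ∑ χ ∈ D.O, D.TF.a i θ χ ^ 2 := by
  by_contra hcon
  have h0 : ∀ χ ∈ D.O, D.TF.a i θ χ ^ 2 = 0 :=
    (Finset.sum_eq_zero_iff_of_nonneg fun χ _ => sq_nonneg _).1
      (le_antisymm (by omega) (Finset.sum_nonneg fun χ _ => sq_nonneg _))
  refine hne (Finset.sum_eq_zero fun χ _ => ?_)
  by_cases hχ : χ ∈ D.R.L
  · rw [D.phi_zero hχ hθ, mul_zero]
  · rw [pow_eq_zero_iff (by norm_num) |>.1 (h0 χ (D.mem_O.2 hχ))]
    simp

theorem out_pos {θ : D.Tb.K →* ℂˣ} (hθ : θ ≠ 1) : 1 ≤ ∑ χ ∈ D.O, D.TF.a 1 θ χ ^ 2 :=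
  D.out_pos_of hθ 1 (D.TF.phi_ne θ hθ 1 (by decide))

theorem out_pos_zero : 1 ≤ ∑ χ ∈ D.O, D.TF.a 0 D.TF.θ₀ χ ^ 2 := D.out_pos_of D.TF.θ₀_ne 0 D.TF.phi_ne_zero

/-- One character outside: its equation. -/
theorem single (a : IrrCharacter G → ℤ) (c : IrrCharacter G → ℤ) (hc : ∀ χ, c χ = D.R.sg χ * a χ) (K : ℂ)
    (hone : ∑ χ ∈ D.O, a χ ^ 2 = 1)
    (h1 : ∑ χ : IrrCharacter G, (a χ : ℂ) * (χ : G → ℂ) 1 = 0)
    (ht : ∑ χ : IrrCharacter G, (a χ : ℂ) * (χ : G → ℂ) t = 0)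
    (hcount : ∑ χ : IrrCharacter G, (χ : G → ℂ) t ^ 2 * (a χ : ℂ) / (χ : G → ℂ) 1 = K) :
    ((D.R.L.map fun χ => (c χ : ℂ) * (D.w χ : ℂ) ^ 2 / (D.d χ : ℂ)).sum - K) *
        (D.R.L.map fun χ => (c χ : ℂ) * (D.d χ : ℂ)).sum =
      (D.R.L.map fun χ => (c χ : ℂ) * (D.w χ : ℂ)).sum ^ 2 ∧
    (D.R.L.map fun χ => (c χ : ℂ) * (D.d χ : ℂ)).sum ≠ 0 := by
  classical
  obtain ⟨X, hX, hX1⟩ := Finset.exists_ne_zero_of_sum_ne_zero (show ∑ χ ∈ D.O, a χ ^ 2 ≠ 0 by omega)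
  have hrest : ∀ χ ∈ D.O, χ ≠ X → a χ = 0 := by
    intro χ hχ hne
    have h := Finset.add_sum_erase D.O (fun χ => a χ ^ 2) hX
    have h' := Finset.single_le_sum (f := fun χ => a χ ^ 2) (fun χ _ => sq_nonneg _)
      (Finset.mem_erase.2 ⟨hne, hχ⟩)
    have : 0 < a X ^ 2 := lt_of_le_of_ne (sq_nonneg _) (Ne.symm hX1)
    have : a χ ^ 2 = 0 := le_antisymm (by linarith) (sq_nonneg _)
    exact pow_eq_zero_iff (by norm_num) |>.1 this
  have hsq : a X ^ 2 = 1 := by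
    rw [← hone, Finset.sum_eq_single X (fun χ hχ hne => by rw [hrest χ hχ hne]; rfl) (fun h => absurd hX h)]
  have hsqc : (a X : ℂ) ^ 2 = 1 := by exact_mod_cast hsq
  have hout : ∀ g : IrrCharacter G → ℂ, (∀ χ, a χ = 0 → g χ = 0) → ∑ χ ∈ D.O, g χ = g X := fun g hg =>
    Finset.sum_eq_single X (fun χ hχ hne => hg χ (hrest χ hχ hne)) (fun h => absurd hX h)
  rw [D.sum_split, hout _ (fun χ h => by simp [h]),
    show (D.R.L.map fun χ : IrrCharacter G => (a χ : ℂ) * (χ : G → ℂ) 1) = D.R.L.map fun χ => (c χ : ℂ) * (D.d χ : ℂ) from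
      List.map_congr_left fun χ _ => by rw [hc, D.deg_c]; push_cast; ring] at h1
  rw [D.sum_split, hout _ (fun χ h => by simp [h]),
    show (D.R.L.map fun χ : IrrCharacter G => (a χ : ℂ) * (χ : G → ℂ) t) = D.R.L.map fun χ => (c χ : ℂ) * (D.w χ : ℂ) from
      List.map_congr_left fun χ hχ => by rw [hc, D.value_t hχ]; push_cast; ring] at ht
  rw [D.sum_split, hout _ (fun χ h => by simp [h]),
    show (D.R.L.map fun χ : IrrCharacter G => (χ : G → ℂ) t ^ 2 * (a χ : ℂ) / (χ : G → ℂ) 1) =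
        D.R.L.map fun χ => (c χ : ℂ) * (D.w χ : ℂ) ^ 2 / (D.d χ : ℂ) from
      List.map_congr_left fun χ hχ => by
        rw [hc, D.value_t hχ, D.deg_c]
        have hd : (D.d χ : ℂ) ≠ 0 := by exact_mod_cast D.d_ne χ
        have hs : (D.R.sg χ : ℂ) ≠ 0 := fun e => by simpa [e] using D.sg_c χ
        push_cast
        field_simp] at hcount
  have hX0 : (X : G → ℂ) 1 ≠ 0 := by rw [irr_apply_one_eq_deg]; exact_mod_cast (deg_irr_pos X).ne'
  generalize (D.R.L.map fun χ => (c χ : ℂ) * (D.d χ : ℂ)).sum = P at h1 ⊢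
  generalize (D.R.L.map fun χ => (c χ : ℂ) * (D.w χ : ℂ)).sum = T at ht ⊢
  generalize (D.R.L.map fun χ => (c χ : ℂ) * (D.w χ : ℂ) ^ 2 / (D.d χ : ℂ)).sum = C at hcount ⊢
  have hC : C - K = -((X : G → ℂ) t ^ 2 * (a X : ℂ) / (X : G → ℂ) 1) := by linear_combination hcount
  have hP : P = -((a X : ℂ) * (X : G → ℂ) 1) := by linear_combination h1
  have hT : T = -((a X : ℂ) * (X : G → ℂ) t) := by linear_combination ht
  refine ⟨?_, fun e => ?_⟩
  · rw [hC, hP, hT]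
    field_simp
  · rw [e, eq_comm, neg_eq_zero, mul_eq_zero] at hP
    rcases hP with e' | e'
    · rw [e'] at hsqc; norm_num at hsqc
    · exact hX0 e'

theorem single_b {θ : D.Tb.K →* ℂˣ} (hθ : θ ≠ 1) (hone : ∑ χ ∈ D.O, D.TF.a 1 θ χ ^ 2 = 1) :
    (D.R.L.map fun χ => (D.b θ χ : ℂ) * (D.w χ : ℂ) ^ 2 / (D.d χ : ℂ)).sum *
        (D.R.L.map fun χ => (D.b θ χ : ℂ) * (D.d χ : ℂ)).sum =
      (D.R.L.map fun χ => (D.b θ χ : ℂ) * (D.w χ : ℂ)).sum ^ 2 := by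
  have h := (D.single _ (D.b θ) (fun _ => rfl) 0 hone (D.TF.at_one θ hθ 1) (D.TF.at_t θ hθ 1)
    (D.TF.count θ hθ 1 (by decide))).1
  rwa [sub_zero] at h

theorem single_zero (hone : ∑ χ ∈ D.O, D.TF.a 0 D.TF.θ₀ χ ^ 2 = 1) :
    ((D.R.L.map fun χ => (D.b0 χ : ℂ) * (D.w χ : ℂ) ^ 2 / (D.d χ : ℂ)).sum -
        -((signedCard F : ℂ) - 1) * signedCard F * ((signedCard F : ℂ) ^ 2 - 1) / (D.h : ℂ)) *
        (D.R.L.map fun χ => (D.b0 χ : ℂ) * (D.d χ : ℂ)).sum =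
      (D.R.L.map fun χ => (D.b0 χ : ℂ) * (D.w χ : ℂ)).sum ^ 2 := by
  refine (D.single _ D.b0 (fun _ => rfl) _ hone (D.TF.at_one _ D.TF.θ₀_ne 0) (D.TF.at_t _ D.TF.θ₀_ne 0) ?_).1
  rw [D.TF.count_zero, Ctx.h, Int.cast_natCast]

include D in
theorem card_F : (Fintype.card F : ℤ) = (signedCard F).natAbs ∧
    ((signedCard F).sign : ℂ) * (Fintype.card F : ℂ) = (signedCard F : ℂ) ∧
    (signedCard F).sign ^ 2 = 1 := by
  have hq : 0 < Fintype.card F := Fintype.card_pos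
  unfold signedCard
  split_ifs
  · rw [Int.sign_eq_one_of_pos (by exact_mod_cast hq)]
    simp
  · rw [Int.sign_eq_neg_one_of_neg (by omega)]
    simp

include D in
theorem Q_mod : signedCard F % 8 = 5 := by
  have h := D.set.mod
  unfold signedCard
  split_ifs <;> omega

include D in
theorem Q_abs : 27 ≤ (signedCard F).natAbs := by
  have h := D.TF.big
  rw [D.Tb.card_K] at h
  have := D.Q_mod
  omega

include D in
theorem Q_pp : IsPrimePow (signedCard F).natAbs := by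
  rw [show (signedCard F).natAbs = Fintype.card F by have h := D.card_F.1; omega]
  exact FiniteField.isPrimePow_card F

/-- The counts of pairs of involutions at the three functions. -/
theorem counts :
    (D.R.L.map fun χ => ((D.R.row χ).1 : ℂ) * (D.w χ : ℂ) ^ 2 / (D.d χ : ℂ)).sum * (D.h : ℂ) =
      -((signedCard F : ℂ) + 1) * signedCard F * ((signedCard F : ℂ) ^ 2 - 1) ∧
    (D.R.L.map fun χ => ((D.R.row χ).2.1 : ℂ) * (D.w χ : ℂ) ^ 2 / (D.d χ : ℂ)).sum * (D.h : ℂ) =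
      (3 * (signedCard F : ℂ) + 1) * signedCard F * ((signedCard F : ℂ) + 1) ∧
    (D.R.L.map fun χ => ((D.R.row χ).2.2 : ℂ) * (D.w χ : ℂ) ^ 2 / (D.d χ : ℂ)).sum * (D.h : ℂ) =
      (3 * (signedCard F : ℂ) + 1) * signedCard F * ((signedCard F : ℂ) + 1) := by
  obtain ⟨hFc, hsgn, hsgn2⟩ := D.card_F
  have hi : ((Subgroup.centralizer ({t} : Set G)).index : ℂ) ≠ 0 := by
    exact_mod_cast Subgroup.index_ne_zero_of_finite
  have hC : (Nat.card (Subgroup.centralizer ({t} : Set G)) : ℂ) =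
      (Fintype.card F : ℂ) * ((Fintype.card F : ℂ) ^ 2 - 1) := by
    have h := D.SF.order
    rw [← Subgroup.index_mul_card (Subgroup.centralizer ({t} : Set G))] at h
    rw [Nat.eq_of_mul_eq_mul_left (Nat.pos_of_ne_zero Subgroup.index_ne_zero_of_finite) h, Nat.cast_mul,
      Nat.cast_sub (Nat.one_le_pow _ _ Fintype.card_pos)]
    push_cast
    ring
  have hG : (Nat.card G : ℂ) = (Subgroup.centralizer ({t} : Set G)).index *
      Nat.card (Subgroup.centralizer ({t} : Set G)) := by rw [← Nat.cast_mul, Subgroup.index_mul_card]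
  have hC0 : (Nat.card (Subgroup.centralizer ({t} : Set G)) : ℂ) ≠ 0 := by exact_mod_cast Nat.card_pos.ne'
  have hq2 : (Fintype.card F : ℂ) ^ 2 = (signedCard F : ℂ) ^ 2 := by
    rw [← hsgn, mul_pow, show ((signedCard F).sign : ℂ) ^ 2 = 1 by exact_mod_cast hsgn2, one_mul]
  have key : ∀ (ψ φ : E → ℂ) (r : IrrCharacter G → ℤ), IsSpecial ψ → (fun y => conj (ψ y)) = φ →
      (∀ χ, χ ∉ D.R.L → coord t E χ φ = 0) → (∀ χ ∈ D.R.L, coord t E χ φ = ((D.R.sg χ * r χ : ℤ) : ℂ)) →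
      (D.R.L.map fun χ => (r χ : ℂ) * (D.w χ : ℂ) ^ 2 / (D.d χ : ℂ)).sum * (D.h : ℂ) =
        (Fintype.card F : ℂ) * ((signedCard F : ℂ) ^ 2 - 1) * classInner pairCount ψ := by
    intro ψ φ r hψ hφ h0 hr
    have h := D.SF.count ψ hψ
    rw [hφ, D.sum_split, Finset.sum_eq_zero (fun χ hχ => by rw [h0 χ (D.mem_O.1 hχ), mul_zero, zero_div]),
      add_zero, show (D.R.L.map fun χ : IrrCharacter G => (χ : G → ℂ) t ^ 2 * coord t E χ φ / (χ : G → ℂ) 1) =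
        D.R.L.map fun χ => (r χ : ℂ) * (D.w χ : ℂ) ^ 2 / (D.d χ : ℂ) from
        List.map_congr_left fun χ hχ => by
          rw [hr χ hχ, D.value_t hχ, D.deg_c]
          have hd : (D.d χ : ℂ) ≠ 0 := by exact_mod_cast D.d_ne χ
          have hs : (D.R.sg χ : ℂ) ≠ 0 := fun e => by simpa [e] using D.sg_c χ
          have e2 := D.sg_c χ
          push_cast
          field_simp
          linear_combination ((r χ : ℂ) * (D.w χ : ℂ) ^ 2) * e2] at h
    rw [h, hG, Ctx.h, Int.cast_natCast, ← hq2, ← hC]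
    field_simp
  have hx := key D.Tb.x D.Tb.x _ D.Tb.spec_x (funext D.Tb.conj_x) (fun χ h => (D.R.rest χ h).1)
    (fun χ h => (D.R.coords χ h).1)
  have hQ1 : (signedCard F : ℂ) - 1 ≠ 0 := by
    have := D.Q_mod
    exact_mod_cast (show signedCard F - 1 ≠ 0 by omega)
  have hx' : (Fintype.card F : ℂ) * ((signedCard F : ℂ) ^ 2 - 1) * classInner pairCount D.Tb.x =
      -((signedCard F : ℂ) + 1) * signedCard F * ((signedCard F : ℂ) ^ 2 - 1) := by
    rw [D.Tb.count_x]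
    linear_combination (-((signedCard F : ℂ) + 1) * ((signedCard F : ℂ) ^ 2 - 1)) * hsgn
  have hrhs : ∀ c : ℂ, c = ((signedCard F).sign : ℂ) * (3 * (signedCard F : ℂ) + 1) / ((signedCard F : ℂ) - 1) →
      (Fintype.card F : ℂ) * ((signedCard F : ℂ) ^ 2 - 1) * c =
      (3 * (signedCard F : ℂ) + 1) * signedCard F * ((signedCard F : ℂ) + 1) := by
    intro c hc
    subst hc
    field_simp
    linear_combination ((3 * (signedCard F : ℂ) + 1) * ((signedCard F : ℂ) ^ 2 - 1)) * hsgn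
  refine ⟨hx.trans hx', ?_⟩
  rcases D.Tb.conj_table with hc | hc
  · exact ⟨(key D.Tb.al D.Tb.al _ D.Tb.spec_al (funext fun y => (hc y).1) (fun χ h => (D.R.rest χ h).2.1)
        (fun χ h => (D.R.coords χ h).2.1)).trans (hrhs _ D.Tb.count_al),
      (key D.Tb.be D.Tb.be _ D.Tb.spec_be (funext fun y => (hc y).2) (fun χ h => (D.R.rest χ h).2.2)
        (fun χ h => (D.R.coords χ h).2.2)).trans (hrhs _ D.Tb.count_be)⟩
  · exact ⟨(key D.Tb.be D.Tb.al _ D.Tb.spec_be (funext fun y => (hc y).2) (fun χ h => (D.R.rest χ h).2.1)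
        (fun χ h => (D.R.coords χ h).2.1)).trans (hrhs _ D.Tb.count_be),
      (key D.Tb.al D.Tb.be _ D.Tb.spec_al (funext fun y => (hc y).1) (fun χ h => (D.R.rest χ h).2.2)
        (fun χ h => (D.R.coords χ h).2.2)).trans (hrhs _ D.Tb.count_al)⟩

/-- The congruence modulo the order of the torus when the multiplicity does not depend on the character. -/
theorem congr_k {χ : IrrCharacter G} (hχ : χ ∈ D.R.L) {α : ℤ} (hα : ∀ θ, θ ≠ 1 → D.b θ χ = α) :
    (signedCard F - 1) / 4 ∣ D.d χ + 4 * α - D.us χ := by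
  have h := D.TF.congr χ (D.R.sg χ * D.us χ) (D.R.sg χ * α) (fun y hy => D.value_K hχ hy) fun θ hθ => by
    rw [← hα θ hθ, Ctx.b, ← mul_assoc, D.R.sg_sq, one_mul]
  rw [D.Tb.card_K, Int.natAbs_dvd] at h
  have := h.mul_left (D.R.sg χ)
  have e : D.R.sg χ * ((deg (χ : G → ℂ) : ℤ) + 4 * (D.R.sg χ * α) - D.R.sg χ * D.us χ) =
      D.d χ + 4 * α - D.us χ := by
    rw [Ctx.d]
    linear_combination (4 * α - D.us χ) * D.R.sg_sq χ
  exact e ▸ this

/-- The inner product of two functions with different characters of the torus. -/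
theorem inner {θ θ' : D.Tb.K →* ℂˣ} (hθ : θ ≠ 1) (hθ' : θ' ≠ 1) (h1 : θ' ≠ θ) (h2 : θ' ≠ θ⁻¹) :
    (D.R.L.map fun χ => D.b θ χ * D.b θ' χ).sum + ∑ χ ∈ D.O, D.TF.a 1 θ χ * D.TF.a 1 θ' χ = 2 := by
  rw [← D.TF.inner_theta θ θ' hθ hθ' h1 h2 1 (by decide), D.sum_split]
  refine congrArg (· + _) (congrArg List.sum (List.map_congr_left fun χ _ => ?_))
  rw [Ctx.b, Ctx.b]
  linear_combination (D.TF.a 1 θ χ * D.TF.a 1 θ' χ) * D.R.sg_sq χ

theorem inner_le {θ θ' : D.Tb.K →* ℂˣ} :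
    2 * ∑ χ ∈ D.O, D.TF.a 1 θ χ * D.TF.a 1 θ' χ ≤
      ∑ χ ∈ D.O, D.TF.a 1 θ χ ^ 2 + ∑ χ ∈ D.O, D.TF.a 1 θ' χ ^ 2 := by
  rw [Finset.mul_sum, ← Finset.sum_add_distrib]
  exact Finset.sum_le_sum fun χ _ => by nlinarith [sq_nonneg (D.TF.a 1 θ χ - D.TF.a 1 θ' χ)]

/-- The data of the principal character. -/
theorem head_facts {o : IrrCharacter G} {L' : List (IrrCharacter G)} (hL : D.R.L = o :: L')
    (hrow : D.R.row o = (1, 0, 0)) : D.d o = -1 ∧ D.w o = -1 ∧ D.us o = -1 ∧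
      ∀ θ, θ ≠ 1 → D.b θ o = 0 := by
  obtain ⟨o', L'', hL', ho, hs⟩ := D.R.head
  rw [hL] at hL'
  obtain ⟨rfl, rfl⟩ := List.cons.inj hL'
  refine ⟨?_, by simp [Ctx.w, hrow], by simp [Ctx.us, hrow], fun θ hθ => ?_⟩
  · have h1 : (deg (o : G → ℂ) : ℂ) = 1 := by rw [← irr_apply_one_eq_deg, ho]
    rw [Ctx.d, hs, show (deg (o : G → ℂ) : ℤ) = 1 by exact_mod_cast h1]
    norm_num
  · rw [Ctx.b, D.TF.one o ho θ hθ 1]; simp

/-- A character of the torus different from a given one and its inverse. -/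
theorem exists_third (θ : D.Tb.K →* ℂˣ) : ∃ θ' : D.Tb.K →* ℂˣ, θ' ≠ 1 ∧ θ' ≠ θ ∧ θ' ≠ θ⁻¹ := by
  classical
  haveI := D.Tb.cyclic
  letI : CommGroup D.Tb.K := IsCyclic.commGroup
  obtain ⟨e⟩ := CommGroup.monoidHom_mulEquiv_of_hasEnoughRootsOfUnity D.Tb.K ℂ
  haveI : Finite (D.Tb.K →* ℂˣ) := Finite.of_equiv _ e.toEquiv.symm
  letI := Fintype.ofFinite (D.Tb.K →* ℂˣ)
  obtain ⟨θ', -, hθ'⟩ := Finset.exists_mem_notMem_of_card_lt_card (s := ({1, θ, θ⁻¹} : Finset (D.Tb.K →* ℂˣ)))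
    (t := Finset.univ) (by
      rw [Finset.card_univ, ← Nat.card_eq_fintype_card, Nat.card_congr e.toEquiv]
      exact lt_of_le_of_lt Finset.card_le_three (by have := D.TF.big; omega))
  simp only [Finset.mem_insert, Finset.mem_singleton, not_or] at hθ'
  exact ⟨θ', hθ'⟩

end Ctx

end Cfsg.Lib.Ree
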