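import Cfsg.Agent.Ree.Assembly.Basic
import Cfsg.Agent.Ree.Assembly.Arith
import Cfsg.Agent.Ree.Arith.TypeB

/-!
The system of eight members.
-/

set_option autoImplicit false
set_option linter.unusedSectionVars false

namespace Cfsg.Lib.Ree

open Cfsg Cfsg.Lib.Chars Cfsg.Lib.Blocks

universe u v

namespace Ctx

variable {G : Type u} [Group G] [Fintype G] {t : G} {E : Subgroup G} [Fintype E] {F : Type v} [Field F]
  [Fintype F]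

/-- The members of the system of eight, up to the obvious symmetries. -/
structure Five (D : Ctx t E F) where
  o : IrrCharacter G
  e1 : IrrCharacter G
  c5 : IrrCharacter G
  c6 : IrrCharacter G
  c7 : IrrCharacter G
  c8 : IrrCharacter G
  c3 : IrrCharacter G
  c4 : IrrCharacter G
  sum : ∀ {α : Type} [AddCommMonoid α] (f : IrrCharacter G → α),
    (D.R.L.map f).sum = f o + f e1 + f c5 + f c6 + f c7 + f c8 + f c3 + f c4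
  mem : o ∈ D.R.L ∧ e1 ∈ D.R.L ∧ c5 ∈ D.R.L ∧ c6 ∈ D.R.L ∧ c7 ∈ D.R.L ∧ c8 ∈ D.R.L ∧ c3 ∈ D.R.L ∧ c4 ∈ D.R.L
  rows : D.R.row o = (1, 0, 0) ∧ D.R.row e1 = (1, 0, 0) ∧ D.R.row c5 = (0, 1, 0) ∧ D.R.row c6 = (0, 1, 0) ∧
    D.R.row c7 = (0, 0, 1) ∧ D.R.row c8 = (0, 0, 1) ∧ D.R.row c3 = (1, 1, 1) ∧ D.R.row c4 = (1, 1, 1)
  head : D.d o = -1 ∧ D.w o = -1 ∧ D.us o = -1 ∧ ∀ θ, θ ≠ 1 → D.b θ o = 0

theorem exists_five (D : Ctx t E F) (h : D.R.L.map D.R.row =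
    [(1, 0, 0), (1, 0, 0), (0, 1, 0), (0, 1, 0), (0, 0, 1), (0, 0, 1), (1, 1, 1), (1, 1, 1)]) :
    Nonempty (Five D) := by
  obtain ⟨o, L1, hL, ro, h1⟩ := List.map_eq_cons_iff.1 h
  obtain ⟨e1, L2, rfl, r1, h2⟩ := List.map_eq_cons_iff.1 h1
  obtain ⟨c5, L3, rfl, r5, h3⟩ := List.map_eq_cons_iff.1 h2
  obtain ⟨c6, L4, rfl, r6, h4⟩ := List.map_eq_cons_iff.1 h3
  obtain ⟨c7, L5, rfl, r7, h5⟩ := List.map_eq_cons_iff.1 h4
  obtain ⟨c8, L6, rfl, r8, h6⟩ := List.map_eq_cons_iff.1 h5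
  obtain ⟨c3, L7, rfl, r3, h7⟩ := List.map_eq_cons_iff.1 h6
  obtain ⟨c4, L8, rfl, r4, h8⟩ := List.map_eq_cons_iff.1 h7
  obtain rfl := List.map_eq_nil_iff.1 h8
  refine ⟨⟨o, e1, c5, c6, c7, c8, c3, c4, fun {α} _ f => ?_, ?_, ⟨ro, r1, r5, r6, r7, r8, r3, r4⟩,
    D.head_facts hL ro⟩⟩
  · simp only [hL, List.map_cons, List.map_nil, List.sum_cons, List.sum_nil, add_zero, add_assoc]
  · simp [hL]

namespace Five

variable {D : Ctx t E F} (S : Five D)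

/-- Exchange the members with row `(1, 1, 1)`. -/
def swap34 : Five D where
  o := S.o
  e1 := S.e1
  c5 := S.c5
  c6 := S.c6
  c7 := S.c7
  c8 := S.c8
  c3 := S.c4
  c4 := S.c3
  sum f := by rw [S.sum f]; abel
  mem := by obtain ⟨a1, a2, a3, a4, a5, a6, a7, a8⟩ := S.mem; exact ⟨a1, a2, a3, a4, a5, a6, a8, a7⟩
  rows := by obtain ⟨a1, a2, a3, a4, a5, a6, a7, a8⟩ := S.rows; exact ⟨a1, a2, a3, a4, a5, a6, a8, a7⟩
  head := S.head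

/-- Exchange the members with row `(0, 1, 0)`. -/
def swap56 : Five D where
  o := S.o
  e1 := S.e1
  c5 := S.c6
  c6 := S.c5
  c7 := S.c7
  c8 := S.c8
  c3 := S.c3
  c4 := S.c4
  sum f := by rw [S.sum f]; abel
  mem := by obtain ⟨a1, a2, a3, a4, a5, a6, a7, a8⟩ := S.mem; exact ⟨a1, a2, a4, a3, a5, a6, a7, a8⟩
  rows := by obtain ⟨a1, a2, a3, a4, a5, a6, a7, a8⟩ := S.rows; exact ⟨a1, a2, a4, a3, a5, a6, a7, a8⟩
  head := S.head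

/-- Exchange the members with row `(0, 0, 1)`. -/
def swap78 : Five D where
  o := S.o
  e1 := S.e1
  c5 := S.c5
  c6 := S.c6
  c7 := S.c8
  c8 := S.c7
  c3 := S.c3
  c4 := S.c4
  sum f := by rw [S.sum f]; abel
  mem := by obtain ⟨a1, a2, a3, a4, a5, a6, a7, a8⟩ := S.mem; exact ⟨a1, a2, a3, a4, a6, a5, a7, a8⟩
  rows := by obtain ⟨a1, a2, a3, a4, a5, a6, a7, a8⟩ := S.rows; exact ⟨a1, a2, a3, a4, a6, a5, a7, a8⟩
  head := S.head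

theorem ws : D.w S.e1 = -1 ∧ D.w S.c5 = midVal (signedCard F) ∧ D.w S.c6 = midVal (signedCard F) ∧
    D.w S.c7 = midVal (signedCard F) ∧ D.w S.c8 = midVal (signedCard F) ∧ D.w S.c3 = signedCard F ∧
    D.w S.c4 = signedCard F := by
  obtain ⟨-, r1, r5, r6, r7, r8, r3, r4⟩ := S.rows
  obtain ⟨M, hQ, hM, -⟩ := exists_mid D.Q_mod
  simp only [Ctx.w, r1, r5, r6, r7, r8, r3, r4, hM]
  refine ⟨?_, ?_, ?_, ?_, ?_, ?_, ?_⟩ <;> omega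

theorem uss : D.us S.e1 = -1 ∧ D.us S.c5 = 1 ∧ D.us S.c6 = 1 ∧ D.us S.c7 = 1 ∧ D.us S.c8 = 1 ∧
    D.us S.c3 = 1 ∧ D.us S.c4 = 1 := by
  obtain ⟨-, r1, r5, r6, r7, r8, r3, r4⟩ := S.rows
  simp [Ctx.us, r1, r5, r6, r7, r8, r3, r4]

theorem cols : D.d S.e1 + D.d S.c3 + D.d S.c4 = 1 ∧ D.d S.c5 + D.d S.c6 + D.d S.c3 + D.d S.c4 = 0 ∧
    D.d S.c7 + D.d S.c8 + D.d S.c3 + D.d S.c4 = 0 := by
  obtain ⟨r0, r1, r5, r6, r7, r8, r3, r4⟩ := S.rows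
  obtain ⟨hx, ha, hb⟩ := D.columns
  rw [S.sum] at hx ha hb
  simp only [r0, r1, r5, r6, r7, r8, r3, r4, S.head.1] at hx ha hb
  refine ⟨?_, ?_, ?_⟩ <;> omega

theorem degrees : Degrees (signedCard F) D.h (-D.d S.e1) (D.d S.c3) (D.d S.c4) (D.d S.c5) (D.d S.c6) ∧
    (1 : ℚ) / (D.d S.c7 : ℚ) + 1 / (D.d S.c8 : ℚ) = 1 / (D.d S.c5 : ℚ) + 1 / (D.d S.c6 : ℚ) := by
  obtain ⟨r0, r1, r5, r6, r7, r8, r3, r4⟩ := S.rows
  obtain ⟨m0, m1, m5, m6, m7, m8, m3, m4⟩ := S.mem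
  obtain ⟨w1, w5, w6, w7, w8, w3, w4⟩ := S.ws
  obtain ⟨M, hQ, hM, hM4⟩ := exists_mid D.Q_mod
  obtain ⟨hx, ha, hb⟩ := S.cols
  have c1 := D.d_congr m1
  have c5 := D.d_congr m5
  have c6 := D.d_congr m6
  have c3 := D.d_congr m3
  have c4 := D.d_congr m4
  rw [w1] at c1
  rw [w5] at c5
  rw [w6] at c6
  rw [w3] at c3
  rw [w4] at c4
  obtain ⟨kx, ka, kb⟩ := D.counts
  rw [S.sum] at kx ka kb
  simp only [r0, r1, r5, r6, r7, r8, r3, r4, S.head.1, S.head.2.1, w1, w5, w6, w7, w8, w3, w4] at kx ka kb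
  push_cast at kx ka kb
  simp only [zero_mul, zero_div, one_mul, zero_add, add_zero] at kx ka kb
  have hQm := D.Q_mod
  refine ⟨⟨D.Q_pp, hQm, by have := D.Q_abs; omega, D.d_pos_h, D.odd_h,
    ⟨neg_ne_zero.2 (D.d_ne _), D.d_ne _, D.d_ne _, D.d_ne _, D.d_ne _⟩, by omega, by omega,
    ⟨by omega, by omega, by omega, c5.1, c6.1⟩,
    ⟨neg_dvd.2 (by simpa using c1.2), c3.2, c4.2, c5.2, c6.2⟩, ?_, ?_⟩, ?_⟩
  · apply Rat.cast_injective (α := ℂ)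
    push_cast
    linear_combination kx
  · apply Rat.cast_injective (α := ℂ)
    push_cast
    linear_combination ka
  · apply Rat.cast_injective (α := ℂ)
    push_cast
    have hh : (D.h : ℂ) ≠ 0 := by exact_mod_cast D.d_pos_h.ne'
    have hm : (midVal (signedCard F) : ℂ) ≠ 0 := by
      exact_mod_cast (show midVal (signedCard F) ≠ 0 by omega)
    refine mul_left_cancel₀ (mul_ne_zero hh (pow_ne_zero 2 hm)) ?_
    linear_combination kb - ka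

/-- The two configurations at a character of the torus. -/
theorem classify {θ : D.Tb.K →* ℂˣ} (hθ : θ ≠ 1) :
    ∑ χ ∈ D.O, D.TF.a 1 θ χ ^ 2 = 1 ∧
    ((D.b θ S.e1 = -1 ∧ D.b θ S.c5 = 0 ∧ D.b θ S.c6 = 0 ∧ D.b θ S.c7 = 0 ∧ D.b θ S.c8 = 0 ∧
        ((D.b θ S.c3 = 1 ∧ D.b θ S.c4 = 0) ∨ (D.b θ S.c3 = 0 ∧ D.b θ S.c4 = 1))) ∨
      (D.b θ S.e1 = 0 ∧ D.b θ S.c3 = 0 ∧ D.b θ S.c4 = 0 ∧
        ((D.b θ S.c5 = 1 ∧ D.b θ S.c6 = 0) ∨ (D.b θ S.c5 = 0 ∧ D.b θ S.c6 = 1)) ∧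
        ((D.b θ S.c7 = 1 ∧ D.b θ S.c8 = 0) ∨ (D.b θ S.c7 = 0 ∧ D.b θ S.c8 = 1)))) := by
  obtain ⟨r0, r1, r5, r6, r7, r8, r3, r4⟩ := S.rows
  obtain ⟨hx, ha, hb⟩ := D.targets hθ
  have hn := D.norm hθ
  have ho := D.out_pos hθ
  rw [S.sum] at hx ha hb hn
  simp only [r0, r1, r5, r6, r7, r8, r3, r4, S.head.2.2.2 θ hθ, mul_one, mul_zero, zero_add, add_zero,
    zero_pow two_ne_zero] at hx ha hb hn
  generalize ∑ χ ∈ D.O, D.TF.a 1 θ χ ^ 2 = out at hn ho ⊢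
  generalize D.b θ S.e1 = b1 at *
  generalize D.b θ S.c5 = b5 at *
  generalize D.b θ S.c6 = b6 at *
  generalize D.b θ S.c7 = b7 at *
  generalize D.b θ S.c8 = b8 at *
  generalize D.b θ S.c3 = b3 at *
  generalize D.b θ S.c4 = b4 at *
  obtain rfl : b1 = -b3 - b4 := by omega
  obtain rfl : b6 = 1 - b5 - b3 - b4 := by omega
  obtain rfl : b8 = 1 - b7 - b3 - b4 := by omega
  have h3 : -1 ≤ b3 ∧ b3 ≤ 1 := by constructor <;> nlinarith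
  have h4 : -1 ≤ b4 ∧ b4 ≤ 1 := by constructor <;> nlinarith
  have h5 : -1 ≤ b5 ∧ b5 ≤ 1 := by constructor <;> nlinarith
  have h7 : -1 ≤ b7 ∧ b7 ≤ 1 := by constructor <;> nlinarith
  obtain ⟨h3, h3'⟩ := h3
  obtain ⟨h4, h4'⟩ := h4
  obtain ⟨h5, h5'⟩ := h5
  obtain ⟨h7, h7'⟩ := h7
  interval_cases b3 <;> interval_cases b4 <;> interval_cases b5 <;> interval_cases b7 <;>
    norm_num at hn <;> (constructor <;> omega)

/-- The equations of the first configuration. -/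
theorem typeA_data (h1 : D.b D.TF.θ₀ S.e1 = -1) (h5 : D.b D.TF.θ₀ S.c5 = 0) (h6 : D.b D.TF.θ₀ S.c6 = 0)
    (h7 : D.b D.TF.θ₀ S.c7 = 0) (h8 : D.b D.TF.θ₀ S.c8 = 0) (h3 : D.b D.TF.θ₀ S.c3 = 1)
    (h4 : D.b D.TF.θ₀ S.c4 = 0) :
    TypeA (signedCard F) D.h (-D.d S.e1) (D.d S.c3) (D.d S.c4) (D.d S.c5) (D.d S.c6) := by
  obtain ⟨hd, h78⟩ := S.degrees
  obtain ⟨m0, m1, m5, m6, m7, m8, m3, m4⟩ := S.mem
  obtain ⟨w1, w5, w6, w7, w8, w3, w4⟩ := S.ws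
  obtain ⟨u1, u5, u6, u7, u8, u3, u4⟩ := S.uss
  obtain ⟨hx, ha, hb⟩ := S.cols
  obtain ⟨hd0, hw0, hu0, hb0⟩ := S.head
  have hone := (S.classify D.TF.θ₀_ne).1
  have e := D.single_b D.TF.θ₀_ne hone
  rw [S.sum, S.sum, S.sum] at e
  simp only [hb0 _ D.TF.θ₀_ne, h1, h5, h6, h7, h8, h3, h4, w1, w3] at e
  push_cast at e
  simp only [zero_mul, zero_div, one_mul, zero_add, add_zero] at e
  have n1 : (D.d S.e1 : ℂ) ≠ 0 := by exact_mod_cast D.d_ne _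
  have n3 : (D.d S.c3 : ℂ) ≠ 0 := by exact_mod_cast D.d_ne _
  have hp : D.d S.c3 = signedCard F * -D.d S.e1 := by
    field_simp at e
    have : ((D.d S.c3 : ℂ) + (signedCard F : ℂ) * D.d S.e1) ^ 2 = 0 := by linear_combination -e
    have := pow_eq_zero_iff two_ne_zero |>.1 this
    have : ((D.d S.c3 : ℤ) : ℂ) = ((signedCard F * -D.d S.e1 : ℤ) : ℂ) := by push_cast; linear_combination this
    exact_mod_cast this
  refine { hd with prop := hp, eq_f := ?_ }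
  have hone0 : ∑ χ ∈ D.O, D.TF.a 0 D.TF.θ₀ χ ^ 2 = 1 := by
    have hn := D.norm_zero
    rw [S.sum, D.b0_eq m0, D.b0_eq m1, D.b0_eq m5, D.b0_eq m6, D.b0_eq m7, D.b0_eq m8, D.b0_eq m3, D.b0_eq m4,
      hb0 _ D.TF.θ₀_ne, h1, h5, h6, h7, h8, h3, h4, hu0, u1, u5, u6, u7, u8, u3, u4] at hn
    norm_num at hn
    omega
  have f := D.single_zero hone0
  rw [S.sum, S.sum, S.sum, D.b0_eq m0, D.b0_eq m1, D.b0_eq m5, D.b0_eq m6, D.b0_eq m7, D.b0_eq m8, D.b0_eq m3,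
    D.b0_eq m4, hb0 _ D.TF.θ₀_ne, h1, h5, h6, h7, h8, h3, h4, hu0, u1, u5, u6, u7, u8, u3, u4, hd0, hw0, w1, w5,
    w6, w7, w8, w3, w4] at f
  push_cast at f
  have hsum : -1 - (D.d S.c5 : ℂ) - D.d S.c6 - D.d S.c7 - D.d S.c8 - D.d S.c4 =
      -(D.d S.e1 : ℂ) * (1 + signedCard F) := by
    exact_mod_cast (show -1 - D.d S.c5 - D.d S.c6 - D.d S.c7 - D.d S.c8 - D.d S.c4 =
      -D.d S.e1 * (1 + signedCard F) by rw [hp] at hx ha hb; linarith)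
  have hM : (signedCard F : ℂ) = 2 * (midVal (signedCard F) : ℂ) - 1 := by
    exact_mod_cast (show signedCard F = 2 * midVal (signedCard F) - 1 by
      have := D.Q_mod; unfold midVal; omega)
  have h78' : (1 : ℂ) / (D.d S.c7 : ℂ) + 1 / (D.d S.c8 : ℂ) = 1 / (D.d S.c5 : ℂ) + 1 / (D.d S.c6 : ℂ) := by
    have := congrArg (Rat.cast : ℚ → ℂ) h78
    push_cast at this
    exact this
  have hh : (D.h : ℂ) ≠ 0 := by exact_mod_cast D.d_pos_h.ne'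
  have hQ1 : (1 : ℂ) + signedCard F ≠ 0 := by
    exact_mod_cast (show 1 + signedCard F ≠ 0 by have := D.Q_mod; omega)
  apply Rat.cast_injective (α := ℂ)
  push_cast
  have g : -(1 : ℂ) - (midVal (signedCard F) : ℂ) ^ 2 * (2 * (1 / (D.d S.c5 : ℂ) + 1 / (D.d S.c6 : ℂ))) -
      (signedCard F : ℂ) ^ 2 / (D.d S.c4 : ℂ) +
      ((signedCard F : ℂ) - 1) * signedCard F * ((signedCard F : ℂ) ^ 2 - 1) / (D.h : ℂ) =
      -(9 * ((signedCard F : ℂ) + 1)) / (D.d S.e1 : ℂ) := by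
    rw [eq_div_iff n1]
    refine mul_left_cancel₀ (neg_ne_zero.2 hQ1) ?_
    linear_combination f + ((midVal (signedCard F) : ℂ) ^ 2 * -(D.d S.e1 : ℂ) * (1 + (signedCard F : ℂ))) * h78' -
      (-1 - (midVal (signedCard F) : ℂ) ^ 2 / (D.d S.c5 : ℂ) - (midVal (signedCard F) : ℂ) ^ 2 / (D.d S.c6 : ℂ) -
        (midVal (signedCard F) : ℂ) ^ 2 / (D.d S.c7 : ℂ) - (midVal (signedCard F) : ℂ) ^ 2 / (D.d S.c8 : ℂ) -
        (signedCard F : ℂ) ^ 2 / (D.d S.c4 : ℂ) +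
        ((signedCard F : ℂ) - 1) * signedCard F * ((signedCard F : ℂ) ^ 2 - 1) / (D.h : ℂ)) * hsum +
      (2 * (-4 - 4 * (signedCard F : ℂ) - 4 * (midVal (signedCard F) : ℂ))) * hM
  have g' := congrArg (fun z => z * (D.h : ℂ)) g
  simp only [add_mul, div_mul_cancel₀ _ hh] at g'
  linear_combination g'

/-- The first configuration gives the order. -/
theorem typeA (h1 : D.b D.TF.θ₀ S.e1 = -1) (h5 : D.b D.TF.θ₀ S.c5 = 0) (h6 : D.b D.TF.θ₀ S.c6 = 0)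
    (h7 : D.b D.TF.θ₀ S.c7 = 0) (h8 : D.b D.TF.θ₀ S.c8 = 0) (h3 : D.b D.TF.θ₀ S.c3 = 1)
    (h4 : D.b D.TF.θ₀ S.c4 = 0) :
    ∃ m : ℕ, 1 ≤ m ∧ signedCard F = -(3 ^ (2 * m + 1)) ∧
      D.h = signedCard F ^ 2 * (signedCard F ^ 2 + signedCard F + 1) :=
  typeASpec _ _ _ _ _ _ _ (S.typeA_data h1 h5 h6 h7 h8 h3 h4)

/-- The four equal degrees. -/
theorem eq_f_B (h1 : D.b D.TF.θ₀ S.e1 = 0) (h5 : D.b D.TF.θ₀ S.c5 = 1) (h6 : D.b D.TF.θ₀ S.c6 = 0)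
    (h7 : D.b D.TF.θ₀ S.c7 = 1) (h8 : D.b D.TF.θ₀ S.c8 = 0) (h3 : D.b D.TF.θ₀ S.c3 = 0)
    (h4 : D.b D.TF.θ₀ S.c4 = 0) (he5 : D.d S.c7 = D.d S.c5) (he6 : D.d S.c8 = D.d S.c6) :
    -(D.h : ℚ) * (1 + 1 / ((-D.d S.e1 : ℤ) : ℚ) +
        (signedCard F : ℚ) ^ 2 * (1 / (D.d S.c3 : ℚ) + 1 / (D.d S.c4 : ℚ)) +
        2 * (midVal (signedCard F) : ℚ) ^ 2 / (D.d S.c6 : ℚ)) -
        9 * (D.h : ℚ) * ((signedCard F : ℚ) + 1) ^ 2 / (2 * (D.d S.c5 : ℚ)) =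
      -((signedCard F : ℚ) - 1) * signedCard F * ((signedCard F : ℚ) ^ 2 - 1) := by
  obtain ⟨m0, m1, m5, m6, m7, m8, m3, m4⟩ := S.mem
  obtain ⟨w1, w5, w6, w7, w8, w3, w4⟩ := S.ws
  obtain ⟨u1, u5, u6, u7, u8, u3, u4⟩ := S.uss
  obtain ⟨hx, ha, hb⟩ := S.cols
  obtain ⟨hd0, hw0, hu0, hb0⟩ := S.head
  have hone0 : ∑ χ ∈ D.O, D.TF.a 0 D.TF.θ₀ χ ^ 2 = 1 := by
    have hn := D.norm_zero
    rw [S.sum, D.b0_eq m0, D.b0_eq m1, D.b0_eq m5, D.b0_eq m6, D.b0_eq m7, D.b0_eq m8, D.b0_eq m3, D.b0_eq m4,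
      hb0 _ D.TF.θ₀_ne, h1, h5, h6, h7, h8, h3, h4, hu0, u1, u5, u6, u7, u8, u3, u4] at hn
    norm_num at hn
    omega
  have f := D.single_zero hone0
  rw [S.sum, S.sum, S.sum, D.b0_eq m0, D.b0_eq m1, D.b0_eq m5, D.b0_eq m6, D.b0_eq m7, D.b0_eq m8, D.b0_eq m3,
    D.b0_eq m4, hb0 _ D.TF.θ₀_ne, h1, h5, h6, h7, h8, h3, h4, hu0, u1, u5, u6, u7, u8, u3, u4, hd0, hw0, w1, w5,
    w6, w7, w8, w3, w4, he5, he6] at f
  push_cast at f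
  have hM : (signedCard F : ℂ) = 2 * (midVal (signedCard F) : ℂ) - 1 := by
    exact_mod_cast (show signedCard F = 2 * midVal (signedCard F) - 1 by
      have := D.Q_mod; unfold midVal; omega)
  have hh : (D.h : ℂ) ≠ 0 := by exact_mod_cast D.d_pos_h.ne'
  have n5 : (D.d S.c5 : ℂ) ≠ 0 := by exact_mod_cast D.d_ne _
  have hsum : -1 + (D.d S.e1 : ℂ) - 2 * D.d S.c6 - D.d S.c3 - D.d S.c4 = 2 * D.d S.c5 := by
    exact_mod_cast (show -1 + D.d S.e1 - 2 * D.d S.c6 - D.d S.c3 - D.d S.c4 = 2 * D.d S.c5 by omega)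
  apply Rat.cast_injective (α := ℂ)
  push_cast
  have g : -(1 : ℂ) + 1 / (D.d S.e1 : ℂ) - 2 * (midVal (signedCard F) : ℂ) ^ 2 / (D.d S.c6 : ℂ) -
      (signedCard F : ℂ) ^ 2 * (1 / (D.d S.c3 : ℂ) + 1 / (D.d S.c4 : ℂ)) +
      ((signedCard F : ℂ) - 1) * signedCard F * ((signedCard F : ℂ) ^ 2 - 1) / (D.h : ℂ) =
      9 * ((signedCard F : ℂ) + 1) ^ 2 / (2 * (D.d S.c5 : ℂ)) := by
    rw [eq_div_iff (mul_ne_zero two_ne_zero n5)]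
    linear_combination f -
      (-1 + 1 / (D.d S.e1 : ℂ) - 2 * (midVal (signedCard F) : ℂ) ^ 2 / (D.d S.c6 : ℂ) -
        (signedCard F : ℂ) ^ 2 * (1 / (D.d S.c3 : ℂ) + 1 / (D.d S.c4 : ℂ)) +
        ((signedCard F : ℂ) - 1) * signedCard F * ((signedCard F : ℂ) ^ 2 - 1) / (D.h : ℂ)) * hsum +
      (-5 - 5 * (signedCard F : ℂ) - 2 * (midVal (signedCard F) : ℂ)) * hM
  have g' := congrArg (fun z => z * (D.h : ℂ)) g
  simp only [add_mul, div_mul_cancel₀ _ hh] at g'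
  linear_combination g'

/-- The second configuration at a character, with its consequence for the degrees. -/
theorem pair_degrees {θ : D.Tb.K →* ℂˣ} (hθ : θ ≠ 1) (h1 : D.b θ S.e1 = 0) (h5 : D.b θ S.c5 = 1)
    (h6 : D.b θ S.c6 = 0) (h7 : D.b θ S.c7 = 1) (h8 : D.b θ S.c8 = 0) (h3 : D.b θ S.c3 = 0)
    (h4 : D.b θ S.c4 = 0) : D.d S.c7 = D.d S.c5 ∧ D.d S.c8 = D.d S.c6 := by
  obtain ⟨w1, w5, w6, w7, w8, w3, w4⟩ := S.ws
  obtain ⟨hd0, hw0, hu0, hb0⟩ := S.head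
  obtain ⟨hx, ha, hb⟩ := S.cols
  have e := D.single_b hθ (S.classify hθ).1
  rw [S.sum, S.sum, S.sum] at e
  simp only [hb0 _ hθ, h1, h5, h6, h7, h8, h3, h4, w5, w7] at e
  push_cast at e
  simp only [zero_mul, zero_div, one_mul, zero_add, add_zero] at e
  have hm : (midVal (signedCard F) : ℂ) ≠ 0 := by
    exact_mod_cast (show midVal (signedCard F) ≠ 0 by have := D.Q_mod; unfold midVal; omega)
  have n5 : (D.d S.c5 : ℂ) ≠ 0 := by exact_mod_cast D.d_ne _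
  have n7 : (D.d S.c7 : ℂ) ≠ 0 := by exact_mod_cast D.d_ne _
  field_simp at e
  have h : (midVal (signedCard F) : ℂ) ^ 2 * ((D.d S.c7 : ℂ) - D.d S.c5) ^ 2 = 0 := by
    first
      | linear_combination e
      | linear_combination ((midVal (signedCard F) : ℂ) ^ 2) * e
  have h' := pow_eq_zero_iff two_ne_zero |>.1 ((mul_eq_zero.1 h).resolve_left (pow_ne_zero 2 hm))
  have : D.d S.c7 = D.d S.c5 := by exact_mod_cast sub_eq_zero.1 h'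
  exact ⟨this, by omega⟩

/-- The second configuration does not occur. -/
theorem typeB_false (h1 : D.b D.TF.θ₀ S.e1 = 0) (h5 : D.b D.TF.θ₀ S.c5 = 1) (h6 : D.b D.TF.θ₀ S.c6 = 0)
    (h7 : D.b D.TF.θ₀ S.c7 = 1) (h8 : D.b D.TF.θ₀ S.c8 = 0) (h3 : D.b D.TF.θ₀ S.c3 = 0)
    (h4 : D.b D.TF.θ₀ S.c4 = 0) : False := by
  obtain ⟨hd, -⟩ := S.degrees
  obtain ⟨he5, he6⟩ := S.pair_degrees D.TF.θ₀_ne h1 h5 h6 h7 h8 h3 h4
  have hf := S.eq_f_B h1 h5 h6 h7 h8 h3 h4 he5 he6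
  by_cases he : D.d S.c6 = D.d S.c5
  · exact no_four_equal hd he hf
  -- the pattern does not depend on the character
  have same : ∀ θ θ' : D.Tb.K →* ℂˣ, θ ≠ 1 → θ' ≠ 1 → θ ≠ θ' → θ ≠ θ'⁻¹ →
      (D.b θ' S.e1 = 0 ∧ D.b θ' S.c5 = 1 ∧ D.b θ' S.c6 = 0 ∧ D.b θ' S.c7 = 1 ∧ D.b θ' S.c8 = 0 ∧
        D.b θ' S.c3 = 0 ∧ D.b θ' S.c4 = 0) →
      (D.b θ S.e1 = 0 ∧ D.b θ S.c5 = 1 ∧ D.b θ S.c6 = 0 ∧ D.b θ S.c7 = 1 ∧ D.b θ S.c8 = 0 ∧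
        D.b θ S.c3 = 0 ∧ D.b θ S.c4 = 0) := by
    intro θ θ' hθ hθ' n1 n2 ⟨e1, e5, e6, e7, e8, e3, e4⟩
    obtain ⟨hone, hc⟩ := S.classify hθ
    have hin := D.inner hθ' hθ n1 n2
    have hle := D.inner_le (θ := θ') (θ' := θ)
    rw [hone, (S.classify hθ').1] at hle
    rw [S.sum] at hin
    simp only [e1, e5, e6, e7, e8, e3, e4, S.head.2.2.2 θ' hθ', zero_mul, one_mul, zero_add, add_zero] at hin
    rcases hc with ⟨-, c5, -, c7, -, -⟩ | ⟨c1, c3, c4, c56, c78⟩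
    · omega
    · rcases c56 with ⟨c5, c6⟩ | ⟨c5, c6⟩ <;> rcases c78 with ⟨c7, c8⟩ | ⟨c7, c8⟩
      · exact ⟨c1, c5, c6, c7, c8, c3, c4⟩
      · have := (S.swap78.pair_degrees hθ c1 c5 c6 c8 c7 c3 c4).1
        simp only [swap78] at this
        omega
      · have := (S.swap56.pair_degrees hθ c1 c6 c5 c7 c8 c3 c4).1
        simp only [swap56] at this
        omega
      · omega
  have base := And.intro h1 (And.intro h5 (And.intro h6 (And.intro h7 (And.intro h8 (And.intro h3 h4)))))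
  have hall : ∀ θ : D.Tb.K →* ℂˣ, θ ≠ 1 → (D.b θ S.e1 = 0 ∧ D.b θ S.c5 = 1 ∧ D.b θ S.c6 = 0 ∧
      D.b θ S.c7 = 1 ∧ D.b θ S.c8 = 0 ∧ D.b θ S.c3 = 0 ∧ D.b θ S.c4 = 0) := by
    intro θ hθ
    by_cases e : θ = D.TF.θ₀
    · exact e ▸ base
    by_cases e' : θ = D.TF.θ₀⁻¹
    · obtain ⟨θ', hθ', n1, n2⟩ := D.exists_third D.TF.θ₀
      refine same θ θ' hθ hθ' (e'.trans_ne (Ne.symm n2)) ?_ (same θ' _ hθ' D.TF.θ₀_ne n1 n2 base)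
      rw [e']
      exact fun h => n1 (inv_injective h).symm
    · exact same θ _ hθ D.TF.θ₀_ne e e' base
  obtain ⟨m0, m1, m5, m6, m7, m8, m3, m4⟩ := S.mem
  obtain ⟨u1, u5, u6, u7, u8, u3, u4⟩ := S.uss
  have k1 := D.congr_k m1 (α := 0) fun θ hθ => (hall θ hθ).1
  have k5 := D.congr_k m5 (α := 1) fun θ hθ => (hall θ hθ).2.1
  have k6 := D.congr_k m6 (α := 0) fun θ hθ => (hall θ hθ).2.2.1
  have k3 := D.congr_k m3 (α := 0) fun θ hθ => (hall θ hθ).2.2.2.2.2.1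
  have k4 := D.congr_k m4 (α := 0) fun θ hθ => (hall θ hθ).2.2.2.2.2.2
  rw [u1] at k1
  rw [u5] at k5
  rw [u6] at k6
  rw [u3] at k3
  rw [u4] at k4
  refine typeBSpec _ _ _ _ _ _ _ { hd with big_q := D.Q_abs, congr_k := ⟨?_, ?_, ?_, ?_, ?_⟩, eq_f := hf }
  · rw [show -D.d S.e1 - 1 = -(D.d S.e1 + 4 * 0 - -1) by ring, dvd_neg]; exact k1
  · convert k3 using 1; ring
  · convert k4 using 1; ring
  · convert k5 using 1; ring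
  · convert k6 using 1; ring

include S in
/-- The first configuration, up to the symmetries. -/
theorem exists_typeA : ∃ S' : Five D,
    TypeA (signedCard F) D.h (-D.d S'.e1) (D.d S'.c3) (D.d S'.c4) (D.d S'.c5) (D.d S'.c6) := by
  rcases (S.classify D.TF.θ₀_ne).2 with ⟨h1, h5, h6, h7, h8, ⟨h3, h4⟩ | ⟨h3, h4⟩⟩ |
    ⟨h1, h3, h4, ⟨h5, h6⟩ | ⟨h5, h6⟩, ⟨h7, h8⟩ | ⟨h7, h8⟩⟩
  · exact ⟨S, S.typeA_data h1 h5 h6 h7 h8 h3 h4⟩
  · exact ⟨S.swap34, S.swap34.typeA_data h1 h5 h6 h7 h8 h4 h3⟩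
  · exact (S.typeB_false h1 h5 h6 h7 h8 h3 h4).elim
  · exact (S.swap78.typeB_false h1 h5 h6 h8 h7 h3 h4).elim
  · exact (S.swap56.typeB_false h1 h6 h5 h7 h8 h3 h4).elim
  · exact (S.swap56.swap78.typeB_false h1 h6 h5 h8 h7 h3 h4).elim

include S in
/-- The system of eight gives the order. -/
theorem result : ∃ m : ℕ, 1 ≤ m ∧ signedCard F = -(3 ^ (2 * m + 1)) ∧
    D.h = signedCard F ^ 2 * (signedCard F ^ 2 + signedCard F + 1) := by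
  rcases (S.classify D.TF.θ₀_ne).2 with ⟨h1, h5, h6, h7, h8, ⟨h3, h4⟩ | ⟨h3, h4⟩⟩ |
    ⟨h1, h3, h4, ⟨h5, h6⟩ | ⟨h5, h6⟩, ⟨h7, h8⟩ | ⟨h7, h8⟩⟩
  · exact S.typeA h1 h5 h6 h7 h8 h3 h4
  · exact S.swap34.typeA h1 h5 h6 h7 h8 h4 h3
  · exact (S.typeB_false h1 h5 h6 h7 h8 h3 h4).elim
  · exact (S.swap78.typeB_false h1 h5 h6 h8 h7 h3 h4).elim
  · exact (S.swap56.typeB_false h1 h6 h5 h7 h8 h3 h4).elim
  · exact (S.swap56.swap78.typeB_false h1 h6 h5 h8 h7 h3 h4).elim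

end Five

end Ctx

end Cfsg.Lib.Ree
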